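import Cfsg.Agent.Lib.Lie.OrderSixty

/-!
# A group of order sixty with six Sylow 5-subgroups is simple
-/

set_option autoImplicit false
set_option linter.style.haveILetI false

namespace Cfsg.Agent.Lead.JankoOrder

universe u

variable {Q : Type u} [Group Q] [Finite Q]

set_option maxHeartbeats 1000000 in
theorem five_dvd_or_two (h60 : Nat.card Q = 60) [Fact (Nat.Prime 5)] (h6 : Nat.card (Sylow 5 Q) = 6)
    (N : Subgroup Q) [N.Normal] (h5 : ¬ 5 ∣ Nat.card N) : Nat.card N ∣ 2 := by
  classical
  obtain ⟨P⟩ : Nonempty (Sylow 5 Q) := inferInstance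
  have hP : Nat.card P = 5 := by
    rw [P.card_eq_multiplicity, h60, show (60 : ℕ) = 5 ^ 1 * 12 by norm_num,
      Nat.factorization_mul (by norm_num) (by norm_num), Finsupp.add_apply,
      Nat.Prime.factorization_pow (by norm_num : Nat.Prime 5), Finsupp.single_eq_same,
      Nat.factorization_eq_zero_of_not_dvd (by norm_num : ¬ 5 ∣ 12)]
    norm_num
  have hN10 : Nat.card (Subgroup.normalizer ((P : Subgroup Q) : Set Q)) = 10 := by
    have h := (Subgroup.normalizer ((P : Subgroup Q) : Set Q)).card_mul_index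
    have hi : (Subgroup.normalizer ((P : Subgroup Q) : Set Q)).index = 6 :=
      (Sylow.card_eq_index_normalizer P).symm.trans h6
    rw [hi, h60] at h
    omega
  have hN12 : Nat.card N ∣ 12 :=
    ((Nat.Prime.coprime_iff_not_dvd (by norm_num : Nat.Prime 5)).2 h5).symm.dvd_of_dvd_mul_left (show Nat.card N ∣ 5 * 12 by
      rw [show 5 * 12 = Nat.card Q by rw [h60]]; exact Subgroup.card_subgroup_dvd_card N)
  -- Sylow subgroups of `N` have order at most two
  have key : ∀ q : ℕ, q.Prime → (q = 2 ∨ q = 3) → ∀ S : Sylow q N, Nat.card S ∣ 10 := by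
    intro q hq hq23 S0
    haveI : Fact q.Prime := ⟨hq⟩
    letI act : MulAction (P : Subgroup Q) (Sylow q N) :=
      MulAction.compHom _ ((MulAut.conjNormal (H := N)).comp (P : Subgroup Q).subtype)
    have hpg : IsPGroup 5 (P : Subgroup Q) := P.2
    have hfix := hpg.card_modEq_card_fixedPoints (Sylow q N)
    have hlt : Nat.card (Sylow q N) % 5 ≠ 0 := by
      obtain ⟨c, hc⟩ : Nat.card (Sylow q N) ∣ 12 :=
        (S0.card_dvd_index.trans (Subgroup.index_dvd_card _)).trans hN12
      intro h
      obtain ⟨c', hc'⟩ := Nat.dvd_of_mod_eq_zero h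
      rw [hc', mul_assoc] at hc
      omega
    obtain ⟨⟨S, hS⟩⟩ : Nonempty (MulAction.fixedPoints (P : Subgroup Q) (Sylow q N)) := by
      refine Finite.card_pos_iff.1 (Nat.pos_of_ne_zero fun h => hlt ?_)
      rw [h] at hfix
      exact hfix
    have hcard : Nat.card S = Nat.card S0 := by rw [S.card_eq_multiplicity, S0.card_eq_multiplicity]
    rw [← hcard]
    set R := (S : Subgroup N).map N.subtype with hR
    have hRc : Nat.card R = Nat.card S := Subgroup.card_map_of_injective (Subgroup.subtype_injective _)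
    have hR12 : Nat.card R ∣ 12 := hRc ▸ (Subgroup.card_subgroup_dvd_card _).trans hN12
    have hR4 : Nat.card R ≤ 4 := by
      obtain ⟨i, hi⟩ := IsPGroup.iff_card.1 S.2
      rw [← hRc.trans rfl] at hi
      have hle := Nat.le_of_dvd (by norm_num) hR12
      rw [hi] at hR12 hle ⊢
      rcases hq23 with rfl | rfl
      · rcases i with _ | _ | _ | i
        · norm_num
        · norm_num
        · norm_num
        · exfalso
          have := (Dvd.intro (2 ^ i) (by ring : 8 * 2 ^ i = 2 ^ (i + 1 + 1 + 1))).trans hR12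
          norm_num at this
      · rcases i with _ | _ | i
        · norm_num
        · norm_num
        · exfalso
          have := (Dvd.intro (3 ^ i) (by ring : 9 * 3 ^ i = 3 ^ (i + 1 + 1))).trans hR12
          norm_num at this
    have hnorm : ∀ g ∈ (P : Subgroup Q), ∀ x ∈ R, g * x * g⁻¹ ∈ R := by
      rintro g hg x ⟨y, hy, rfl⟩
      have h := hS ⟨g, hg⟩
      refine ⟨MulAut.conjNormal g y, ?_, by simp⟩
      have h2 : MulAut.conjNormal g y ∈ ((⟨g, hg⟩ : (P : Subgroup Q)) • S : Sylow q N).1 :=
        ⟨y, hy, rfl⟩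
      rwa [h] at h2
    -- the action on at most four points of a group of order five is trivial
    have hcomm : ∀ g ∈ (P : Subgroup Q), ∀ x ∈ R, g * x = x * g := by
      letI act2 : MulAction (P : Subgroup Q) R :=
        { smul := fun g x => ⟨(g : Q) * x * (g : Q)⁻¹, hnorm g g.2 x x.2⟩
          one_smul := fun x => by apply Subtype.ext; show (1 : Q) * _ * (1 : Q)⁻¹ = _; group
          mul_smul := fun g g' x => by
            apply Subtype.ext
            show ((g : Q) * g') * _ * ((g : Q) * g')⁻¹ = (g : Q) * ((g' : Q) * _ * (g' : Q)⁻¹) * (g : Q)⁻¹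
            group }
      intro g hg x hx
      have hdvd : Nat.card (MulAction.orbit (P : Subgroup Q) (⟨x, hx⟩ : R)) ∣ 5 := by
        rw [Nat.card_coe_set_eq, ← MulAction.index_stabilizer]
        exact (Subgroup.index_dvd_card _).trans hP.dvd
      have hle : Nat.card (MulAction.orbit (P : Subgroup Q) (⟨x, hx⟩ : R)) ≤ 4 :=
        (Nat.card_le_card_of_injective _ Subtype.val_injective).trans hR4
      have h1 : Nat.card (MulAction.orbit (P : Subgroup Q) (⟨x, hx⟩ : R)) = 1 :=
        ((Nat.dvd_prime (by norm_num)).1 hdvd).resolve_right (by omega)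
      haveI := (Nat.card_eq_one_iff_unique.1 h1).1
      have h2 := congrArg (fun z : MulAction.orbit (P : Subgroup Q) (⟨x, hx⟩ : R) => ((z.1 : R) : Q))
        (Subsingleton.elim ⟨_, MulAction.mem_orbit _ (⟨g, hg⟩ : (P : Subgroup Q))⟩ ⟨_, MulAction.mem_orbit_self _⟩)
      change g * x * g⁻¹ = x at h2
      calc g * x = g * x * g⁻¹ * g := by group
        _ = x * g := by rw [h2]
    rw [← hRc, ← hN10]
    refine Subgroup.card_dvd_of_le fun x hx => Subgroup.mem_normalizer_iff.2 fun g => ?_
    have hP' : ∀ g ∈ (P : Subgroup Q), x * g * x⁻¹ = g := fun g hg => by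
      rw [← hcomm g hg x hx, mul_inv_cancel_right]
    refine ⟨fun hg => by rw [hP' g hg]; exact hg, fun hg => ?_⟩
    have e : x * g * x⁻¹ = g := by
      have h := hP' _ hg
      exact mul_left_cancel (mul_right_cancel h)
    rwa [e] at hg
  have h3 : ¬ 3 ∣ Nat.card N := fun h => by
    haveI : Fact (Nat.Prime 3) := ⟨by norm_num⟩
    obtain ⟨S⟩ : Nonempty (Sylow 3 N) := inferInstance
    have := (dvd_trans (S.pow_dvd_card_of_pow_dvd_card (n := 1) (by simpa using h)) (key 3 (by norm_num) (Or.inr rfl) S))
    norm_num at this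
  have h4 : ¬ 4 ∣ Nat.card N := fun h => by
    haveI : Fact (Nat.Prime 2) := ⟨Nat.prime_two⟩
    obtain ⟨S⟩ : Nonempty (Sylow 2 N) := inferInstance
    have := (dvd_trans (S.pow_dvd_card_of_pow_dvd_card (n := 2) (by simpa using h)) (key 2 Nat.prime_two (Or.inl rfl) S))
    norm_num at this
  have hmem : Nat.card N ∈ Nat.divisors 12 := Nat.mem_divisors.2 ⟨hN12, by norm_num⟩
  rw [show Nat.divisors 12 = {1, 2, 3, 4, 6, 12} by decide] at hmem
  simp only [Finset.mem_insert, Finset.mem_singleton] at hmem
  rcases hmem with h | h | h | h | h | h <;> rw [h] at h3 h4 ⊢ <;> norm_num at *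

theorem isSimpleGroup_sixty (h60 : Nat.card Q = 60) [Fact (Nat.Prime 5)] (h6 : Nat.card (Sylow 5 Q) = 6) :
    IsSimpleGroup Q := by
  classical
  have hP : ∀ P : Sylow 5 Q, Nat.card P = 5 := fun P => by
    rw [P.card_eq_multiplicity, h60, show (60 : ℕ) = 5 ^ 1 * 12 by norm_num,
      Nat.factorization_mul (by norm_num) (by norm_num), Finsupp.add_apply,
      Nat.Prime.factorization_pow (by norm_num : Nat.Prime 5), Finsupp.single_eq_same,
      Nat.factorization_eq_zero_of_not_dvd (by norm_num : ¬ 5 ∣ 12)]
    norm_num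
  obtain ⟨P⟩ : Nonempty (Sylow 5 Q) := inferInstance
  set M := Subgroup.normalizer ((P : Subgroup Q) : Set Q) with hM
  have hM10 : Nat.card M = 10 := by
    have h := M.card_mul_index
    have hi : M.index = 6 := (Sylow.card_eq_index_normalizer P).symm.trans h6
    rw [hi, h60] at h
    omega
  haveI : Nontrivial Q := Finite.one_lt_card_iff_nontrivial.1 (by omega)
  refine ⟨fun N hN => ?_⟩
  by_cases h5 : 5 ∣ Nat.card N
  · -- then `N` holds all six Sylow subgroups
    have hall : ∀ R : Sylow 5 Q, (R : Subgroup Q) ≤ N := by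
      obtain ⟨⟨x, hxN⟩, hx⟩ := exists_prime_orderOf_dvd_card' 5 h5
      rw [Subgroup.orderOf_mk] at hx
      obtain ⟨R0, hR0⟩ := (IsPGroup.of_card (n := 1) (by rw [Nat.card_zpowers, hx, pow_one]) :
        IsPGroup 5 (Subgroup.zpowers x)).exists_le_sylow
      have he : Subgroup.zpowers x = (R0 : Subgroup Q) :=
        Subgroup.eq_of_le_of_card_ge hR0 (by rw [Nat.card_zpowers, hx]; exact (hP R0).le)
      intro R
      obtain ⟨g, rfl⟩ := MulAction.exists_smul_eq Q R0 R
      rw [Sylow.coe_subgroup_smul, ← he]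
      rintro _ ⟨y, hy, rfl⟩
      exact hN.conj_mem y (Subgroup.zpowers_le.2 hxN hy) g
    right
    by_contra hne
    have hdvd : Nat.card N ∣ 60 := h60 ▸ Subgroup.card_subgroup_dvd_card N
    -- `N` has order thirty
    let P' : Sylow 5 N := P.subtype (hall P)
    have hsurj : Nat.card (Sylow 5 Q) ≤ Nat.card (Sylow 5 N) :=
      Nat.card_le_card_of_injective (fun R => R.subtype (hall R)) fun R R' h => Sylow.ext (by
        have h2 := congrArg (fun S : Sylow 5 N => (S : Subgroup N).map N.subtype) h
        simp only [Sylow.coe_subtype, Subgroup.subgroupOf_map_subtype, inf_of_le_left (hall R), inf_of_le_left (hall R')] at h2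
        exact h2)
    have hn := Sylow.card_eq_index_normalizer P'
    have hle : (P' : Subgroup N) ≤ Subgroup.normalizer ((P' : Subgroup N) : Set N) := Subgroup.le_normalizer
    have hmul := (Subgroup.normalizer ((P' : Subgroup N) : Set N)).card_mul_index
    have h5le : 5 ≤ Nat.card (Subgroup.normalizer ((P' : Subgroup N) : Set N)) := by
      refine le_trans ?_ (Nat.le_of_dvd Nat.card_pos (Subgroup.card_dvd_of_le hle))
      rw [Sylow.coe_subtype, Nat.card_congr (Subgroup.subgroupOfEquivOfLe (hall P)).toEquiv]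
      exact (hP P).ge
    rw [h6] at hsurj
    have hidx : (Subgroup.normalizer ((P' : Subgroup N) : Set N)).index = Nat.card (Sylow 5 N) := hn.symm
    have hbig : 30 ≤ Nat.card N := by
      rw [← hmul, hidx]; exact le_trans (by norm_num) (Nat.mul_le_mul h5le hsurj)
    have h30 : Nat.card N = 30 := by
      obtain ⟨c, hc⟩ := hdvd
      have hlt : Nat.card N ≠ 60 := fun h => hne (Subgroup.eq_top_of_card_eq _ (by rw [h, h60]))
      have hc2 : c ≤ 2 := by
        by_contra hh; push_neg at hh
        have := Nat.mul_le_mul hbig hh; omega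
      interval_cases c <;> omega
    have hN5 : Nat.card (Subgroup.normalizer ((P' : Subgroup N) : Set N)) = 5 := by
      rw [h30, hidx] at hmul
      by_contra hh
      have h6' : 6 ≤ Nat.card (Subgroup.normalizer ((P' : Subgroup N) : Set N)) := by omega
      have := Nat.mul_le_mul h6' hsurj
      omega
    have hP' : Nat.card (P' : Subgroup N) = 5 := by
      rw [Sylow.coe_subtype, Nat.card_congr (Subgroup.subgroupOfEquivOfLe (hall P)).toEquiv]; exact hP P
    have hNP : Subgroup.normalizer ((P' : Subgroup N) : Set N) = (P' : Subgroup N) :=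
      (Subgroup.eq_of_le_of_card_ge hle (by rw [hN5, hP'])).symm
    haveI : IsCyclic (P' : Subgroup N) := isCyclic_of_prime_card hP'
    have hcent : Subgroup.normalizer ((P' : Subgroup N) : Set N) ≤ Subgroup.centralizer ((P' : Subgroup N) : Set N) := by
      rw [hNP]
      intro a ha b hb
      exact congrArg Subtype.val (IsCyclic.commutative.is_comm.comm (⟨b, hb⟩ : (P' : Subgroup N)) ⟨a, ha⟩)
    set K := (MonoidHom.transferSylow P' hcent).ker with hK
    have hK6 : Nat.card K = 6 := by
      have := (MonoidHom.ker_transferSylow_isComplement' P' hcent).card_mul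
      rw [hP', h30] at this
      change Nat.card K * 5 = 30 at this
      omega
    have hmem : ∀ y : N, y ∈ K ↔ ¬ 5 ∣ orderOf y := fun y => by
      constructor
      · intro hy h
        have h2 : orderOf y ∣ 6 := hK6 ▸ K.orderOf_dvd_natCard hy
        have := h.trans h2
        norm_num at this
      · intro h
        rw [hK, MonoidHom.mem_ker, ← orderOf_eq_one_iff]
        have h1 : orderOf (MonoidHom.transferSylow P' hcent y) ∣ orderOf y := orderOf_map_dvd _ y
        have h2 : orderOf (MonoidHom.transferSylow P' hcent y) ∣ 5 := (orderOf_dvd_natCard _).trans hP'.dvd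
        exact ((Nat.dvd_prime (by norm_num)).1 h2).resolve_right fun e => h (e ▸ h1)
    haveI : (K.map N.subtype).Normal := ⟨fun a ha g => by
      obtain ⟨y, hy, rfl⟩ := ha
      refine ⟨⟨g * y * g⁻¹, hN.conj_mem _ y.2 g⟩, (hmem _).2 ?_, rfl⟩
      rw [← Subgroup.orderOf_coe]
      show ¬ 5 ∣ orderOf (MulAut.conj g (y : Q))
      rw [MulEquiv.orderOf_eq, Subgroup.orderOf_coe]
      exact (hmem _).1 hy⟩
    have hc6 : Nat.card (K.map N.subtype) = 6 := by
      rw [Subgroup.card_map_of_injective (Subgroup.subtype_injective _), hK6]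
    have := five_dvd_or_two h60 h6 (K.map N.subtype) (by rw [hc6]; norm_num)
    rw [hc6] at this
    norm_num at this
  · haveI := hN
    have h2 := five_dvd_or_two h60 h6 N h5
    rcases (Nat.dvd_prime Nat.prime_two).1 h2 with h | h
    · exact Or.inl (Subgroup.card_eq_one.1 h)
    exfalso
    -- a normal subgroup of order two is central, so Burnside gives a complement
    obtain ⟨⟨u, huN⟩, hu⟩ := exists_prime_orderOf_dvd_card' (G := N) 2 (h ▸ dvd_rfl)
    rw [Subgroup.orderOf_mk] at hu
    have hNeq : Subgroup.zpowers u = N :=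
      Subgroup.eq_of_le_of_card_ge (Subgroup.zpowers_le.2 huN) (by rw [Nat.card_zpowers, hu, h])
    have hcentral : ∀ g : Q, g * u = u * g := fun g => by
      have hm : g * u * g⁻¹ ∈ Subgroup.zpowers u := hNeq.symm ▸ hN.conj_mem u huN g
      obtain ⟨i, hi⟩ := mem_powers_iff_mem_zpowers.2 hm
      replace hi : u ^ i = g * u * g⁻¹ := hi
      rw [← pow_mod_orderOf, hu] at hi
      rcases Nat.mod_two_eq_zero_or_one i with h2 | h2 <;> rw [h2] at hi
      · rw [pow_zero, eq_comm, conj_eq_one_iff] at hi
        rw [hi, orderOf_one] at hu; omega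
      · rw [pow_one] at hi
        calc g * u = g * u * g⁻¹ * g := by group
          _ = u * g := by rw [← hi]
    set C := Subgroup.centralizer ((P : Subgroup Q) : Set Q) with hC
    haveI : IsCyclic (P : Subgroup Q) := isCyclic_of_prime_card (hP P)
    have hPC : (P : Subgroup Q) ≤ C := fun a ha b hb =>
      congrArg Subtype.val (IsCyclic.commutative.is_comm.comm (⟨b, hb⟩ : (P : Subgroup Q)) ⟨a, ha⟩)
    have huC : u ∈ C := fun b _ => hcentral b
    have h10 : 10 ∣ Nat.card C := by
      refine Nat.Coprime.mul_dvd_of_dvd_of_dvd (by norm_num : Nat.Coprime 2 5) ?_ ?_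
      · rw [← hu]; exact Subgroup.orderOf_dvd_natCard _ huC
      · exact (hP P) ▸ Subgroup.card_dvd_of_le hPC
    have hle : M ≤ C := (Subgroup.eq_of_le_of_card_ge (Subgroup.centralizer_le_normalizer _)
      (by rw [← hM, hM10]; exact Nat.le_of_dvd Nat.card_pos h10)).ge
    have hcompl := (MonoidHom.ker_transferSylow_isComplement' P hle).card_mul
    rw [h60] at hcompl
    change Nat.card (MonoidHom.transferSylow P hle).ker * Nat.card P = 60 at hcompl
    rw [hP P] at hcompl
    have h12 : Nat.card (MonoidHom.transferSylow P hle).ker = 12 := by omega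
    have := five_dvd_or_two h60 h6 (MonoidHom.transferSylow P hle).ker (by rw [h12]; norm_num)
    rw [h12] at this
    norm_num at this

end Cfsg.Agent.Lead.JankoOrder
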