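import Cfsg.Agent.Lib.Lead.JankoOrder.Small
import Cfsg.Agent.Lib.Lead.JankoOrder.Sixty
import Cfsg.Agent.Lib.Lead.JankoOne.Model
import Mathlib.GroupTheory.NoncommCoprod

/-!
# A simple group of order 175560 is the first Janko group
-/

set_option autoImplicit false
set_option linter.style.haveILetI false

namespace Cfsg.Agent.Lead.JankoOrder

universe u

variable {G : Type u} [Group G] [Finite G]

theorem alt_involutions : ∀ a : alternatingGroup (Fin 5), a * a = 1 → a ≠ 1 →
    ∃ g : alternatingGroup (Fin 5), g * a * g⁻¹ = ⟨Equiv.swap 0 1 * Equiv.swap 2 3, Equiv.Perm.mem_alternatingGroup.2 (by decide)⟩ := by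
  decide +kernel

theorem alt_sq : ∀ a : alternatingGroup (Fin 5), a * a * (a * a) = 1 → a * a = 1 := by
  decide +kernel

theorem sylow_count {C : Type u} [Group C] [Finite C] {q d : ℕ} [Fact q.Prime] {u : C} (hq2 : q ≠ 2)
    (hcard : Nat.card C = 8 * d) (hqd : q ∣ d) (hq' : ¬ q * q ∣ d) (hu : orderOf u = 2) (huc : ∀ x, x * u = u * x) :
    (∀ Q : Sylow q C, Nat.card Q = q) ∧ Nat.card (Sylow q C) % q = 1 ∧ Nat.card (Sylow q C) * (2 * q) ∣ 8 * d := by
  have hq : q.Prime := Fact.out
  obtain ⟨m, hm⟩ := hqd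
  have hm' : ¬ q ∣ 8 * m := fun h => by
    rcases hq.dvd_mul.1 h with h | h
    · exact hq2 ((Nat.prime_dvd_prime_iff_eq hq Nat.prime_two).1 (hq.dvd_of_dvd_pow (show q ∣ 2 ^ 3 from h)))
    · exact hq' (hm ▸ Nat.mul_dvd_mul_left q h)
  have hQ : ∀ Q : Sylow q C, Nat.card Q = q := fun Q => by
    have := Small.SmallOrders.sylow_card_eq (p := q) (k := 1) (m := 8 * m) (by rw [hcard, hm]; ring) hm' Q
    rwa [pow_one] at this
  refine ⟨hQ, ?_, ?_⟩
  · have := card_sylow_modEq_one q C
    rwa [Nat.ModEq, Nat.mod_eq_of_lt hq.one_lt] at this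
  · obtain ⟨Q⟩ : Nonempty (Sylow q C) := inferInstance
    rw [← hcard, ← Small.SmallOrders.card_normalizer Q]
    refine Nat.mul_dvd_mul_left _ (Nat.Coprime.mul_dvd_of_dvd_of_dvd
      ((Nat.coprime_primes Nat.prime_two hq).2 (Ne.symm hq2)) ?_ ?_)
    · rw [← hu]
      refine Subgroup.orderOf_dvd_natCard _ (Subgroup.mem_normalizer_iff.2 fun x => ?_)
      rw [show u * x * u⁻¹ = x by rw [← huc x, mul_inv_cancel_right]]
    · exact (hQ Q).symm.dvd.trans (Subgroup.card_dvd_of_le Subgroup.le_normalizer)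

variable {d : ℕ} (hd : ∀ u : G, orderOf u = 2 → Nat.card (Subgroup.centralizer ({u} : Set G)) = 8 * d)

include hd in
/-- More than one Sylow `q`-subgroup in the centraliser. -/
theorem one_lt_sylow [IsSimpleGroup G] (hG : Nat.card G = 175560) {e k : ℕ} (D : PrimeData G 19 1540 e k)
    (hk : k ∈ [1, 3]) {q : ℕ} [Fact q.Prime] (hq : q = 5 ∨ q = 7 ∨ q = 11) (hqd : q ∣ d) (hq' : ¬ q * q ∣ d)
    (h11 : q = 11 → ¬ 5 ∣ d) {t : G} (ht : orderOf t = 2) :
    Nat.card (Sylow q (Subgroup.centralizer ({t} : Set G))) ≠ 1 ∧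
      Nat.card (Sylow q (Subgroup.centralizer ({t} : Set G))) % q = 1 ∧
      Nat.card (Sylow q (Subgroup.centralizer ({t} : Set G))) * (2 * q) ∣ 8 * d := by
  set C := Subgroup.centralizer ({t} : Set G)
  let u : C := ⟨t, Subgroup.mem_centralizer_singleton_iff.2 rfl⟩
  obtain ⟨hQ, h1, h2⟩ := sylow_count (C := C) (u := u) (by omega : q ≠ 2) (hd t ht) hqd hq'
    (by rw [Subgroup.orderOf_mk]; exact ht) (fun x => Subtype.ext (Subgroup.mem_centralizer_singleton_iff.1 x.2))
  refine ⟨fun h => ?_, h1, h2⟩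
  obtain ⟨⟨hsub⟩, ⟨Q⟩⟩ := Nat.card_eq_one_iff_unique.1 h
  haveI : Subsingleton (Sylow q C) := ⟨hsub⟩
  haveI hn : (Q : Subgroup C).Normal := Sylow.normal_of_subsingleton Q
  obtain ⟨x, hx⟩ := exists_prime_orderOf_dvd_card' (G := (Q : Subgroup C)) q (hQ Q).symm.dvd
  have hxq : orderOf ((x : C) : G) = q := by rw [Subgroup.orderOf_coe, Subgroup.orderOf_coe, hx]
  have hgen : Subgroup.zpowers (x : C) = (Q : Subgroup C) :=
    Subgroup.eq_of_le_of_card_ge (Subgroup.zpowers_le.2 x.2) (by
      rw [Nat.card_zpowers, Subgroup.orderOf_coe, hx]; exact (hQ Q).le)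
  refine no_normal hd hG D hk hq h11 ht hxq (Subgroup.mem_centralizer_singleton_iff.1 (x : C).2) fun g hg => ?_
  have hconj : ∀ h : G, h ∈ C → ∀ y ∈ Subgroup.zpowers ((x : C) : G), h * y * h⁻¹ ∈ Subgroup.zpowers ((x : C) : G) := by
    intro h hh y hy
    obtain ⟨i, rfl⟩ := hy
    obtain ⟨j, hj⟩ := hgen.ge
      (hn.conj_mem _ (hgen.le (Subgroup.zpow_mem _ (Subgroup.mem_zpowers (x : C)) i)) ⟨h, hh⟩)
    exact ⟨j, congrArg Subtype.val hj⟩
  refine Subgroup.mem_normalizer_iff.2 fun y => ⟨hconj g hg y, fun hy => ?_⟩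
  have := hconj g⁻¹ (Subgroup.inv_mem _ hg) _ hy
  rwa [show g⁻¹ * (g * y * g⁻¹) * g⁻¹⁻¹ = y by group] at this

include hd in
theorem d_eq [IsSimpleGroup G] (hG : Nat.card G = 175560) (hI : invCount G * d = 21945)
    (ht : ∃ t : G, orderOf t = 2) : d = 15 ∧ ∀ t : G, orderOf t = 2 →
      Nat.card (Sylow 5 (Subgroup.centralizer ({t} : Set G))) = 6 := by
  haveI : Fact (Nat.Prime 5) := ⟨by norm_num⟩
  haveI : Fact (Nat.Prime 7) := ⟨by norm_num⟩
  haveI : Fact (Nat.Prime 11) := ⟨by norm_num⟩
  obtain ⟨e, k, D, hk, he⟩ := nineteen hd hG hI ht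
  have hmem := d_small hG hI D hk he
  have h19 := not_nineteen hd D hk ht
  obtain ⟨h1, h3⟩ := not_one_three hd hG hI D hk
  simp only [List.mem_cons, List.not_mem_nil, or_false] at hmem
  obtain ⟨t0, ht0⟩ := ht
  rcases hmem with rfl | rfl | rfl | rfl | rfl | rfl | rfl | rfl
  · omega
  · omega
  · exfalso
    obtain ⟨hne, hmod, hdvd⟩ := one_lt_sylow hd hG D hk (q := 5) (by omega) (by norm_num) (by norm_num) (by omega) ht0
    have h4 : Nat.card (Sylow 5 (Subgroup.centralizer ({t0} : Set G))) ∈ Nat.divisors 4 :=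
      Nat.mem_divisors.2 ⟨Nat.dvd_of_mul_dvd_mul_right (show 0 < 2 * 5 by norm_num) (by simpa using hdvd), by norm_num⟩
    have key : ∀ n ∈ Nat.divisors 4, n % 5 = 1 → n = 1 := by decide
    exact hne (key _ h4 hmod)
  · exfalso
    obtain ⟨hne, hmod, hdvd⟩ := one_lt_sylow hd hG D hk (q := 7) (by omega) (by norm_num) (by norm_num) (by omega) ht0
    have h4 : Nat.card (Sylow 7 (Subgroup.centralizer ({t0} : Set G))) ∈ Nat.divisors 4 :=
      Nat.mem_divisors.2 ⟨Nat.dvd_of_mul_dvd_mul_right (show 0 < 2 * 7 by norm_num) (by simpa using hdvd), by norm_num⟩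
    have key : ∀ n ∈ Nat.divisors 4, n % 7 = 1 → n = 1 := by decide
    exact hne (key _ h4 hmod)
  · exfalso
    obtain ⟨hne, hmod, hdvd⟩ := one_lt_sylow hd hG D hk (q := 11) (by omega) (by norm_num) (by norm_num) (by omega) ht0
    have h4 : Nat.card (Sylow 11 (Subgroup.centralizer ({t0} : Set G))) ∈ Nat.divisors 4 :=
      Nat.mem_divisors.2 ⟨Nat.dvd_of_mul_dvd_mul_right (show 0 < 2 * 11 by norm_num) (by simpa using hdvd), by norm_num⟩
    have key : ∀ n ∈ Nat.divisors 4, n % 11 = 1 → n = 1 := by decide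
    exact hne (key _ h4 hmod)
  · refine ⟨rfl, fun t ht => ?_⟩
    obtain ⟨hne, hmod, hdvd⟩ := one_lt_sylow hd hG D hk (q := 5) (by omega) (by norm_num) (by norm_num) (by omega) ht
    have h4 : Nat.card (Sylow 5 (Subgroup.centralizer ({t} : Set G))) ∈ Nat.divisors 12 :=
      Nat.mem_divisors.2 ⟨Nat.dvd_of_mul_dvd_mul_right (show 0 < 2 * 5 by norm_num) (by simpa using hdvd), by norm_num⟩
    have key : ∀ n ∈ Nat.divisors 12, n % 5 = 1 → n = 1 ∨ n = 6 := by decide
    exact (key _ h4 hmod).resolve_left hne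
  · omega
  · exfalso
    obtain ⟨hne, hmod, hdvd⟩ := one_lt_sylow hd hG D hk (q := 7) (by omega) (by norm_num) (by norm_num) (by omega) ht0
    have h4 : Nat.card (Sylow 7 (Subgroup.centralizer ({t0} : Set G))) ∈ Nat.divisors 12 :=
      Nat.mem_divisors.2 ⟨Nat.dvd_of_mul_dvd_mul_right (show 0 < 2 * 7 by norm_num) (by simpa using hdvd), by norm_num⟩
    have key : ∀ n ∈ Nat.divisors 12, n % 7 = 1 → n = 1 := by decide
    exact hne (key _ h4 hmod)

theorem second_involution (hd : ∀ u : G, orderOf u = 2 → Nat.card (Subgroup.centralizer ({u} : Set G)) = 8 * 15)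
    (hI : invCount G = 1463) {t : G} (ht : orderOf t = 2) :
    ∃ s : G, orderOf s = 2 ∧ s ≠ t ∧ s ∈ Subgroup.centralizer ({t} : Set G) := by
  classical
  by_contra hc
  push_neg at hc
  haveI : Fact (Nat.Prime 2) := ⟨Nat.prime_two⟩
  set C := Subgroup.centralizer ({t} : Set G) with hC
  obtain ⟨S⟩ : Nonempty (Sylow 2 C) := inferInstance
  have hS : Nat.card S = 8 := by
    have := Small.SmallOrders.sylow_card_eq (p := 2) (k := 3) (m := 15) (by rw [hd t ht]; norm_num) (by norm_num) S
    rw [this]; norm_num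
  let X := {s : {s : G // orderOf s = 2} // s.1 ≠ t}
  have hX : Nat.card X = 1462 := by
    haveI := Fintype.ofFinite {s : G // orderOf s = 2}
    have he : Nat.card X = Nat.card {s : {s : G // orderOf s = 2} // ¬ s = ⟨t, ht⟩} :=
      Nat.card_congr (Equiv.subtypeEquivRight fun s => ⟨fun h e => h (congrArg Subtype.val e), fun h e => h (Subtype.ext e)⟩)
    rw [he, Nat.card_eq_fintype_card, Fintype.card_subtype_compl, Fintype.card_subtype_eq,
      ← Nat.card_eq_fintype_card, show Nat.card {s : G // orderOf s = 2} = 1463 from hI]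
  letI act : MulAction (S : Subgroup C) X :=
    { smul := fun g s => ⟨⟨((g : C) : G) * s.1.1 * ((g : C) : G)⁻¹, by
          rw [← MulAut.conj_apply, MulEquiv.orderOf_eq, s.1.2]⟩, fun h => s.2 (by
          have hg := Subgroup.mem_centralizer_singleton_iff.1 (g : C).2
          change ((g : C) : G) * s.1.1 * ((g : C) : G)⁻¹ = t at h
          rw [show s.1.1 = ((g : C) : G)⁻¹ * (((g : C) : G) * s.1.1 * ((g : C) : G)⁻¹) * (g : C) by group, h,
            mul_assoc, ← hg, inv_mul_cancel_left])⟩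
      one_smul := fun s => by apply Subtype.ext; apply Subtype.ext; show (1 : G) * _ * (1 : G)⁻¹ = _; group
      mul_smul := fun g g' s => by
        apply Subtype.ext; apply Subtype.ext
        show (((g : C) : G) * (g' : C)) * _ * (((g : C) : G) * (g' : C))⁻¹ =
          ((g : C) : G) * (((g' : C) : G) * _ * ((g' : C) : G)⁻¹) * ((g : C) : G)⁻¹
        group }
  have hfree : ∀ s : X, Nat.card (MulAction.orbit (S : Subgroup C) s) = 8 := by
    intro s
    have hbot : MulAction.stabilizer (S : Subgroup C) s = ⊥ := by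
      rw [Subgroup.eq_bot_iff_forall]
      intro g hg
      by_contra hg1
      have hcm : Commute ((g : C) : G) s.1.1 := by
        have h := congrArg (fun z : X => z.1.1) hg
        change ((g : C) : G) * s.1.1 * ((g : C) : G)⁻¹ = s.1.1 at h
        show ((g : C) : G) * s.1.1 = s.1.1 * (g : C)
        calc ((g : C) : G) * s.1.1 = ((g : C) : G) * s.1.1 * ((g : C) : G)⁻¹ * (g : C) := by group
          _ = s.1.1 * (g : C) := by rw [h]
      obtain ⟨j, hj⟩ := (IsPGroup.iff_orderOf.1 S.2) g
      have hj0 : j ≠ 0 := fun h => hg1 (orderOf_eq_one_iff.1 (by rw [hj, h, pow_zero]))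
      have hev : 2 ∣ orderOf ((g : C) : G) := by
        rw [Subgroup.orderOf_coe, Subgroup.orderOf_coe, hj]; exact dvd_pow_self 2 hj0
      set w := ((g : C) : G) ^ (orderOf ((g : C) : G) / 2) with hw
      have hw2 : orderOf w = 2 := orderOf_pow_orderOf_div (orderOf_pos _).ne' hev
      have hwt : w = t := by
        by_contra h
        exact hc w hw2 h (Subgroup.pow_mem _ (g : C).2 _)
      refine hc s.1.1 s.1.2 s.2 (Subgroup.mem_centralizer_singleton_iff.2 ?_)
      have hfin : s.1.1 * w = w * s.1.1 := ((hcm.pow_left _).eq).symm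
      rwa [hwt] at hfin
    rw [Nat.card_coe_set_eq, ← MulAction.index_stabilizer, hbot, Subgroup.index_bot]
    exact hS
  have h8 : 8 ∣ Nat.card X := by
    haveI := Fintype.ofFinite (MulAction.orbitRel.Quotient (S : Subgroup C) X)
    rw [Nat.card_congr (MulAction.selfEquivSigmaOrbits (S : Subgroup C) X), Nat.card_sigma]
    exact Finset.dvd_sum fun ω _ => by rw [hfree]
  rw [hX] at h8
  norm_num at h8

theorem cent_iso [IsSimpleGroup G] (hd : ∀ u : G, orderOf u = 2 → Nat.card (Subgroup.centralizer ({u} : Set G)) = 8 * 15)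
    (hI : invCount G = 1463) {t : G} (ht : orderOf t = 2)
    (h6 : Nat.card (Sylow 5 (Subgroup.centralizer ({t} : Set G))) = 6) :
    Nonempty (Subgroup.centralizer ({t} : Set G) ≃* Multiplicative (ZMod 2) × alternatingGroup (Fin 5)) := by
  classical
  haveI : Fact (Nat.Prime 2) := ⟨Nat.prime_two⟩
  haveI : Fact (Nat.Prime 5) := ⟨by norm_num⟩
  obtain ⟨s₀, hs₀, hst, hsC⟩ := second_involution hd hI ht
  set C := Subgroup.centralizer ({t} : Set G) with hC
  let u : C := ⟨t, Subgroup.mem_centralizer_singleton_iff.2 rfl⟩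
  have hu : orderOf u = 2 := by rw [Subgroup.orderOf_mk]; exact ht
  have huc : ∀ x : C, x * u = u * x := fun x => Subtype.ext (Subgroup.mem_centralizer_singleton_iff.1 x.2)
  have hC120 : Nat.card C = 120 := by rw [hd t ht]
  set Z := Subgroup.zpowers u with hZ
  have hZc : Nat.card Z = 2 := by rw [Nat.card_zpowers, hu]
  haveI hZn : Z.Normal := ⟨fun a ha g => by
    obtain ⟨i, rfl⟩ := ha
    have : g * u ^ i * g⁻¹ = u ^ i := by
      rw [(Commute.zpow_right (show Commute g u from huc g) i).eq, mul_inv_cancel_right]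
    exact this.symm ▸ Subgroup.zpow_mem _ (Subgroup.mem_zpowers u) i⟩
  have hQ60 : Nat.card (C ⧸ Z) = 60 := by
    have := Z.card_mul_index
    rw [hZc, hC120] at this
    show Z.index = 60
    omega
  -- the quotient has six Sylow 5-subgroups
  have hq6 : Nat.card (Sylow 5 (C ⧸ Z)) = 6 := by
    obtain ⟨P⟩ : Nonempty (Sylow 5 (C ⧸ Z)) := inferInstance
    have hP : Nat.card P = 5 := by
      have := Small.SmallOrders.sylow_card_eq (p := 5) (k := 1) (m := 12) (by rw [hQ60]; norm_num) (by norm_num) P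
      rwa [pow_one] at this
    have hmod : Nat.card (Sylow 5 (C ⧸ Z)) % 5 = 1 := card_sylow_modEq_one 5 (C ⧸ Z)
    have hdvd : Nat.card (Sylow 5 (C ⧸ Z)) ∣ 12 := by
      have h1 := P.card_dvd_index
      have h2 := (P : Subgroup (C ⧸ Z)).card_mul_index
      rw [hP, hQ60] at h2
      rwa [show (P : Subgroup (C ⧸ Z)).index = 12 by omega] at h1
    have key : ∀ n ∈ Nat.divisors 12, n % 5 = 1 → n = 1 ∨ n = 6 := by decide
    refine (key _ (Nat.mem_divisors.2 ⟨hdvd, by norm_num⟩) hmod).resolve_left fun h1 => ?_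
    haveI : Subsingleton (Sylow 5 (C ⧸ Z)) := (Nat.card_eq_one_iff_unique.1 h1).1
    haveI hn : (P : Subgroup (C ⧸ Z)).Normal := Sylow.normal_of_subsingleton P
    set M := (P : Subgroup (C ⧸ Z)).comap (QuotientGroup.mk' Z) with hM
    have hM10 : Nat.card M = 10 := by
      have h1 := M.card_mul_index
      rw [hM, Subgroup.index_comap_of_surjective _ (QuotientGroup.mk'_surjective Z), hC120] at h1
      have h2 := (P : Subgroup (C ⧸ Z)).card_mul_index
      rw [hP, hQ60] at h2
      rw [show (P : Subgroup (C ⧸ Z)).index = 12 by omega] at h1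
      rw [hM]; omega
    have hle : ∀ R : Sylow 5 C, (R : Subgroup C) ≤ M := by
      intro R x hx
      have hp : IsPGroup 5 ((R : Subgroup C).map (QuotientGroup.mk' Z)) := R.2.map _
      obtain ⟨P', hP'⟩ := hp.exists_le_sylow
      rw [Subgroup.mem_comap, Subsingleton.elim P P']
      exact hP' ⟨x, hx, rfl⟩
    have h := Nat.card_le_card_of_injective (fun R : Sylow 5 C => R.subtype (hle R)) fun R R' h => Sylow.ext (by
      have h2 := congrArg (fun S : Sylow 5 M => (S : Subgroup M).map M.subtype) h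
      simp only [Sylow.coe_subtype, Subgroup.subgroupOf_map_subtype, inf_of_le_left (hle R),
        inf_of_le_left (hle R')] at h2
      exact h2)
    rw [h6] at h
    obtain ⟨T⟩ : Nonempty (Sylow 5 M) := inferInstance
    have h3 : Nat.card (Sylow 5 M) ∣ 2 := by
      have h1 := T.card_dvd_index
      have h2 := (T : Subgroup M).card_mul_index
      have hT : Nat.card T = 5 := by
        have := Small.SmallOrders.sylow_card_eq (p := 5) (k := 1) (m := 2) (by rw [hM10]; norm_num) (by norm_num) T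
        rwa [pow_one] at this
      rw [hT, hM10] at h2
      rwa [show (T : Subgroup M).index = 2 by omega] at h1
    have := Nat.le_of_dvd two_pos h3
    omega
  haveI := isSimpleGroup_sixty hQ60 hq6
  obtain ⟨φ⟩ := Cfsg.Agent.Lie.simple_sixty hQ60
  let f : C →* alternatingGroup (Fin 5) := φ.toMonoidHom.comp (QuotientGroup.mk' Z)
  have hfsurj : Function.Surjective f := φ.surjective.comp (QuotientGroup.mk'_surjective Z)
  have hker : ∀ x : C, f x = 1 ↔ x = 1 ∨ x = u := by
    intro x
    rw [show f x = φ (x : C ⧸ Z) from rfl, EmbeddingLike.map_eq_one_iff, QuotientGroup.eq_one_iff]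
    constructor
    · intro hx
      obtain ⟨i, hi⟩ := mem_powers_iff_mem_zpowers.2 hx
      rw [← hi]
      show u ^ i = 1 ∨ u ^ i = u
      rw [← pow_mod_orderOf, hu]
      rcases Nat.mod_two_eq_zero_or_one i with h | h <;> rw [h] <;> simp
    · rintro (rfl | rfl)
      · exact one_mem _
      · exact Subgroup.mem_zpowers u
  have huu : u * u = 1 := by rw [← pow_two, ← hu, pow_orderOf_eq_one]
  -- a Sylow 2-subgroup is elementary abelian
  obtain ⟨S⟩ : Nonempty (Sylow 2 C) := inferInstance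
  have hS : Nat.card S = 8 := by
    have := Small.SmallOrders.sylow_card_eq (p := 2) (k := 3) (m := 15) (by rw [hC120]; norm_num) (by norm_num) S
    rw [this]; norm_num
  have huS : u ∈ (S : Subgroup C) := by
    have hpg : IsPGroup 2 Z := IsPGroup.of_card (n := 1) (by rw [hZc, pow_one])
    obtain ⟨T, hT⟩ := hpg.exists_le_sylow
    obtain ⟨g, hg⟩ := MulAction.exists_smul_eq C T S
    rw [← hg, Sylow.smul_def]
    refine ⟨u, hT (Subgroup.mem_zpowers u), ?_⟩
    show g * u * g⁻¹ = u
    rw [huc g, mul_inv_cancel_right]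
  have hexp : ∀ x ∈ (S : Subgroup C), x * x = 1 := by
    intro x hx
    have hfx : f x * f x = 1 := by
      refine alt_sq _ ?_
      have h8 : x ^ 8 = 1 := by
        have := (S : Subgroup C).orderOf_dvd_natCard hx
        rw [hS] at this
        exact orderOf_dvd_iff_pow_eq_one.1 this
      refine alt_sq _ ?_
      rw [← map_mul, ← map_mul, ← map_mul, show x * x * (x * x) * (x * x * (x * x)) = x ^ 8 by simp only [pow_succ, pow_zero, one_mul, mul_assoc], h8, map_one]
    by_cases h1 : f x = 1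
    · rcases (hker x).1 h1 with rfl | rfl
      · rw [one_mul]
      · exact huu
    · -- conjugate to a coset holding an involution
      set s : C := ⟨s₀, hsC⟩ with hs
      have hss : s * s = 1 := Subtype.ext (by
        show s₀ * s₀ = 1
        rw [← pow_two, ← hs₀, pow_orderOf_eq_one])
      have hfs : f s ≠ 1 := fun h => by
        rcases (hker s).1 h with h | h
        · rw [show s₀ = 1 from congrArg Subtype.val h, orderOf_one] at hs₀; omega
        · exact hst (congrArg Subtype.val h)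
      obtain ⟨a, ha⟩ := alt_involutions (f s) (by rw [← map_mul, hss, map_one]) hfs
      obtain ⟨b, hb⟩ := alt_involutions (f x) hfx h1
      obtain ⟨c, hc⟩ := hfsurj (b⁻¹ * a)
      have he : f (x * (c * s * c⁻¹)⁻¹) = 1 := by
        simp only [map_mul, map_inv, hc]
        rw [← hb] at ha
        have hxe : f x = b⁻¹ * a * f s * (b⁻¹ * a)⁻¹ := by
          calc f x = b⁻¹ * (b * f x * b⁻¹) * b := by group
            _ = b⁻¹ * (a * f s * a⁻¹) * b := by rw [ha]
            _ = b⁻¹ * a * f s * (b⁻¹ * a)⁻¹ := by group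
        rw [hxe]; group
      have hcs : (c * s * c⁻¹) * (c * s * c⁻¹) = 1 := by
        rw [show c * s * c⁻¹ * (c * s * c⁻¹) = c * (s * s) * c⁻¹ by group, hss]; group
      rcases (hker _).1 he with h | h
      · rw [mul_inv_eq_one.1 h]; exact hcs
      · rw [mul_inv_eq_iff_eq_mul.1 h, show u * (c * s * c⁻¹) * (u * (c * s * c⁻¹)) = u * u * ((c * s * c⁻¹) * (c * s * c⁻¹)) by
          rw [show u * (c * s * c⁻¹) * (u * (c * s * c⁻¹)) = u * ((c * s * c⁻¹) * u) * (c * s * c⁻¹) by group, huc]; group,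
          huu, hcs, one_mul]
  letI : CommGroup (S : Subgroup C) :=
    { (inferInstance : Group (S : Subgroup C)) with
      mul_comm := fun x y => Subtype.ext (by
        show (x : C) * y = y * x
        calc (x : C) * y = ((x : C) * y)⁻¹ := (inv_eq_of_mul_eq_one_left (hexp _ ((S : Subgroup C).mul_mem x.2 y.2))).symm
          _ = y * x := by
            rw [mul_inv_rev, inv_eq_of_mul_eq_one_left (hexp _ x.2), inv_eq_of_mul_eq_one_left (hexp _ y.2)]) }
  set D := commutator C with hD
  have huD : u ∉ D := by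
    intro h
    let τ : C →* (S : Subgroup C) := MonoidHom.transfer (MonoidHom.id (S : Subgroup C))
    have h1 : τ u = 1 := MonoidHom.mem_ker.1 (Abelianization.commutator_subset_ker τ h)
    have hkey : ∀ (k : ℕ) (g₀ : C), g₀⁻¹ * u ^ k * g₀ ∈ (S : Subgroup C) → g₀⁻¹ * u ^ k * g₀ = u ^ k := fun k g _ => by
      rw [mul_assoc, ← (Commute.pow_right (show Commute g u from huc g) k).eq, inv_mul_cancel_left]
    rw [show τ u = _ from MonoidHom.transfer_eq_pow (MonoidHom.id (S : Subgroup C)) u hkey] at h1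
    have h2 : u ^ (S : Subgroup C).index = 1 := congrArg Subtype.val h1
    have hidx : (S : Subgroup C).index = 15 := by
      have := (S : Subgroup C).card_mul_index
      rw [hS, hC120] at this
      omega
    rw [hidx, ← pow_mod_orderOf, hu] at h2
    norm_num at h2
    rw [h2, orderOf_one] at hu
    omega
  have hDsurj : D.map f = ⊤ := by
    rw [hD, commutator_def, Subgroup.map_commutator, Subgroup.map_top_of_surjective f hfsurj]
    haveI : IsSimpleGroup (alternatingGroup (Fin 5)) := alternatingGroup.isSimpleGroup_five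
    refine (IsSimpleGroup.eq_bot_or_eq_top_of_normal _ inferInstance).resolve_left fun h => ?_
    obtain ⟨a, b, hab⟩ : ∃ a b : alternatingGroup (Fin 5), a * b ≠ b * a := by
      refine ⟨⟨Equiv.swap 0 1 * Equiv.swap 2 3, Equiv.Perm.mem_alternatingGroup.2 (by decide)⟩,
        ⟨Equiv.swap 0 1 * Equiv.swap 2 4, Equiv.Perm.mem_alternatingGroup.2 (by decide)⟩, by decide⟩
    refine hab (commutatorElement_eq_one_iff_mul_comm.1 (Subgroup.mem_bot.1 ?_))
    rw [← h]
    exact Subgroup.commutator_mem_commutator (Subgroup.mem_top a) (Subgroup.mem_top b)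
  let g : D →* alternatingGroup (Fin 5) := f.comp D.subtype
  have hgb : Function.Bijective g := by
    refine ⟨(MonoidHom.ker_eq_bot_iff g).1 ((Subgroup.eq_bot_iff_forall _).2 fun x hx => ?_), fun a => ?_⟩
    · rcases (hker x).1 hx with h | h
      · exact Subtype.ext h
      · exact absurd (h ▸ x.2) huD
    · obtain ⟨x, hx, hxa⟩ := Subgroup.mem_map.1 (hDsurj.symm ▸ Subgroup.mem_top a : a ∈ D.map f)
      exact ⟨⟨x, hx⟩, hxa⟩
  have hDc : Nat.card D = 60 := by
    rw [Nat.card_eq_of_bijective g hgb, nat_card_alternatingGroup, Nat.card_fin]; rfl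
  haveI : IsCyclic Z := isCyclic_of_prime_card hZc
  let ψ : Z × D →* C := MonoidHom.noncommCoprod Z.subtype D.subtype fun z x => by
    obtain ⟨i, hi⟩ := z.2
    show Commute (z : C) (x : C)
    rw [← hi]
    exact Commute.zpow_left (show Commute u (x : C) from (huc x).symm) i
  have hψ : Function.Bijective ψ := by
    refine (Nat.bijective_iff_injective_and_card ψ).2 ⟨(MonoidHom.ker_eq_bot_iff ψ).1 ((Subgroup.eq_bot_iff_forall _).2 ?_), ?_⟩
    · rintro ⟨z, x⟩ h
      rw [MonoidHom.mem_ker] at h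
      change (z : C) * (x : C) = 1 at h
      have hfz : f (z : C) = 1 := by
        show φ ((z : C) : C ⧸ Z) = 1
        rw [(QuotientGroup.eq_one_iff _).2 z.2, map_one]
      have hx : g x = g 1 := by
        show f (x : C) = f ((1 : D) : C)
        rw [OneMemClass.coe_one, map_one]
        have := congrArg f h
        rwa [map_mul, map_one, hfz, one_mul] at this
      obtain rfl : x = 1 := hgb.1 hx
      refine Prod.ext (Subtype.ext ?_) rfl
      simpa using h
    · rw [Nat.card_prod, hZc, hDc, hC120]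
  have hz2 : Nat.card (Multiplicative (ZMod 2)) = 2 := by
    rw [Nat.card_congr Multiplicative.toAdd, Nat.card_zmod]
  exact ⟨(MulEquiv.ofBijective ψ hψ).symm.trans
    (MulEquiv.prodCongr (mulEquivOfPrimeCardEq hZc hz2) (MulEquiv.ofBijective g hgb))⟩

theorem isoJ1_of_card [IsSimpleGroup G] (hG : Nat.card G = 175560) : Cfsg.Spor.IsoJ1 G := by
  classical
  haveI : Fact (Nat.Prime 2) := ⟨Nat.prime_two⟩
  obtain ⟨d, -, hI, ⟨t0, ht0⟩, hd⟩ := card_cent_two hG
  obtain ⟨rfl, h6⟩ := d_eq hd hG hI ⟨t0, ht0⟩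
  obtain ⟨S⟩ : Nonempty (Sylow 2 (Subgroup.centralizer ({t0} : Set G))) := inferInstance
  obtain ⟨e⟩ := cent_iso hd (by omega) ht0 (h6 t0 ht0)
  have hS : Nat.card S = 8 := by
    have := Small.SmallOrders.sylow_card_eq (p := 2) (k := 3) (m := 15) (by rw [hd t0 ht0]; norm_num) (by norm_num) S
    rw [this]; norm_num
  set R := (S : Subgroup _).map (Subgroup.centralizer ({t0} : Set G)).subtype with hR
  have hR8 : Nat.card R = 2 ^ (Nat.card G).factorization 2 := by
    rw [hR, Subgroup.card_map_of_injective (Subgroup.subtype_injective _), hS, hG,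
      show (175560 : ℕ) = 2 ^ 3 * 21945 by norm_num, Nat.factorization_mul (by norm_num) (by norm_num),
      Finsupp.add_apply, Nat.Prime.factorization_pow Nat.prime_two, Finsupp.single_eq_same,
      Nat.factorization_eq_zero_of_not_dvd (by norm_num)]
    norm_num
  refine Cfsg.Agent.Lead.JankoOne.isoJ1 (t := t0) ⟨ht0, Sylow.ofCard R hR8, ?_, ?_⟩ e
  · have hpg : IsPGroup 2 (Subgroup.zpowers (⟨t0, Subgroup.mem_centralizer_singleton_iff.2 rfl⟩ :
        Subgroup.centralizer ({t0} : Set G))) :=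
      IsPGroup.of_card (n := 1) (by rw [Nat.card_zpowers, Subgroup.orderOf_mk, ht0, pow_one])
    obtain ⟨T, hT⟩ := hpg.exists_le_sylow
    obtain ⟨g, hg⟩ := MulAction.exists_smul_eq (Subgroup.centralizer ({t0} : Set G)) T S
    refine ⟨⟨t0, Subgroup.mem_centralizer_singleton_iff.2 rfl⟩, ?_, rfl⟩
    rw [← hg, Sylow.smul_def]
    refine ⟨_, hT (Subgroup.mem_zpowers _), Subtype.ext ?_⟩
    show (g : G) * t0 * (g : G)⁻¹ = t0
    rw [Subgroup.mem_centralizer_singleton_iff.1 g.2, mul_inv_cancel_right]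
  · rintro x ⟨⟨x', hx'⟩, -, rfl⟩
    exact Subgroup.mem_centralizer_singleton_iff.1 hx'

end Cfsg.Agent.Lead.JankoOrder
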