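import Cfsg.Agent.Lib.Char.OrderJankoBase
import Cfsg.Agent.Lib.Fusion.ThompsonTransferCyclic
import Mathlib.GroupTheory.SpecificGroups.Cyclic

/-!
# Simple groups of order 175560: involutions and their products
-/

set_option autoImplicit false
set_option linter.style.haveILetI false

namespace Cfsg.Agent.Lead.JankoOrder

open Cfsg.Agent.Char

universe u

variable {G : Type u} [Group G] [Finite G]

theorem inv_conj_iff {s x : G} (ss : s * s = 1) : (s * x) * (s * x) = 1 ↔ s * x * s⁻¹ = x⁻¹ := by
  rw [inv_eq_of_mul_eq_one_left ss, ← mul_eq_one_iff_eq_inv, mul_assoc (s * x) s x]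

theorem orderOf_eq_two {g : G} : orderOf g = 2 ↔ g * g = 1 ∧ g ≠ 1 := by
  rw [orderOf_eq_iff two_pos, pow_two]
  refine ⟨fun h => ⟨h.1, by simpa using h.2 1 one_lt_two one_pos⟩, fun h => ⟨h.1, fun m hm hm0 => ?_⟩⟩
  obtain rfl : m = 1 := by omega
  simpa using h.2

/-- the number of involutions -/
noncomputable def invCount (G : Type u) [Group G] : ℕ := Nat.card {s : G // orderOf s = 2}

/-- the involutions which multiply `x` to an involution -/
noncomputable def invPartners (x : G) : ℕ := Nat.card {s : G // orderOf s = 2 ∧ orderOf (s * x) = 2}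

theorem invPartners_le (x : G) : invPartners x ≤ Nat.card (Subgroup.centralizer ({x} : Set G)) := by
  classical
  rcases isEmpty_or_nonempty {s : G // orderOf s = 2 ∧ orderOf (s * x) = 2} with h | ⟨⟨a, ha, ha'⟩⟩
  · rw [invPartners, Nat.card_of_isEmpty]; exact Nat.zero_le _
  refine Nat.card_le_card_of_injective
    (fun s => (⟨a⁻¹ * s.1, Subgroup.mem_centralizer_singleton_iff.2 ?_⟩ :
      Subgroup.centralizer ({x} : Set G))) fun p q e => Subtype.ext (mul_left_cancel (congrArg Subtype.val e))
  have e1 := (inv_conj_iff (orderOf_eq_two.1 ha).1).1 (orderOf_eq_two.1 ha').1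
  have e2 := (inv_conj_iff (orderOf_eq_two.1 s.2.1).1).1 (orderOf_eq_two.1 s.2.2).1
  calc a⁻¹ * s.1 * x = a⁻¹ * (s.1 * x * s.1⁻¹) * s.1 := by group
    _ = a⁻¹ * x⁻¹ * s.1 := by rw [e2]
    _ = a⁻¹ * (a * x * a⁻¹) * s.1 := by rw [e1]
    _ = x * (a⁻¹ * s.1) := by group

theorem invPartners_one_le : invPartners (1 : G) ≤ invCount G :=
  Nat.card_le_card_of_injective (fun s => ⟨s.1, s.2.1⟩) fun p q e => Subtype.ext (congrArg (fun z : {s : G // orderOf s = 2} => z.1) e)

/-- Every pair of involutions has a product. -/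
theorem sum_invPartners [Fintype G] : ∑ x : G, invPartners x = invCount G * invCount G := by
  classical
  simp only [invPartners, invCount]
  rw [← Nat.card_prod, ← Nat.card_sigma]
  refine Nat.card_congr ⟨fun r => (⟨r.2.1, r.2.2.1⟩, ⟨r.2.1 * r.1, r.2.2.2⟩),
    fun r => ⟨r.1.1⁻¹ * r.2.1, ⟨r.1.1, r.1.2, by rw [mul_inv_cancel_left]; exact r.2.2⟩⟩, ?_, ?_⟩
  · rintro ⟨x, s, hs, hs'⟩
    simp only [inv_mul_cancel_left]
    refine Sigma.subtype_ext ?_ rfl
    simp
  · rintro ⟨⟨s, hs⟩, ⟨s', hs'⟩⟩
    simp

/-- An element of prime order with an inverting involution has at least that many partners. -/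
theorem le_invPartners {s x : G} (hs : orderOf s = 2) (he : s * x * s⁻¹ = x⁻¹) (hx2 : x * x ≠ 1) :
    orderOf x ≤ invPartners x := by
  classical
  obtain ⟨ss, s1⟩ := orderOf_eq_two.1 hs
  have hpow : ∀ i : ℕ, s * x ^ i * s⁻¹ = (x ^ i)⁻¹ := fun i => by rw [← conj_pow, he, inv_pow]
  have hx : ∀ i : ℕ, s * x ^ i ≠ 1 := fun i hi => hx2 (by
    have hc : s * x * s⁻¹ = x := by
      rw [eq_inv_of_mul_eq_one_left hi]; group
    calc x * x = (s * x * s⁻¹) * x := by rw [hc]
      _ = 1 := by rw [he, inv_mul_cancel])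
  have hinv : ∀ i : ℕ, orderOf (s * x ^ i) = 2 := fun i =>
    orderOf_eq_two.2 ⟨(inv_conj_iff ss).2 (hpow i), hx i⟩
  calc orderOf x = Nat.card (Fin (orderOf x)) := (Nat.card_fin _).symm
    _ ≤ invPartners x := by
      refine Nat.card_le_card_of_injective
        (fun i => ⟨s * x ^ i.val, hinv _, by rw [mul_assoc, ← pow_succ]; exact hinv _⟩) fun i j e => ?_
      exact Fin.ext (pow_injOn_Iio_orderOf i.2 j.2 (mul_left_cancel (congrArg (fun z => z.1) e)))

theorem commutator_eq_top [IsSimpleGroup G] (hG : Nat.card G = 175560) : commutator G = ⊤ := by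
  refine (IsSimpleGroup.eq_bot_or_eq_top_of_normal _ inferInstance).resolve_left fun h => ?_
  refine Lead.BlockDeg.not_comm (p := 19) (m := 9240) (G := G) (by norm_num) (by rw [hG]) (by norm_num)
    ⟨⟨fun a b => ?_⟩⟩
  open scoped commutatorElement in
  have hm : ⁅a, b⁆ ∈ commutator G := by
    rw [commutator_def]; exact Subgroup.commutator_mem_commutator (Subgroup.mem_top a) (Subgroup.mem_top b)
  rw [h, Subgroup.mem_bot, commutatorElement_eq_one_iff_mul_comm] at hm
  exact hm

theorem card_sylow_two (hG : Nat.card G = 175560) [Fact (Nat.Prime 2)] (S : Sylow 2 G) : Nat.card S = 8 := by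
  have := Small.SmallOrders.sylow_card_eq (p := 2) (k := 3) (m := 21945) (by rw [hG]; norm_num) (by norm_num) S
  rw [this]; norm_num

/-- All involutions are conjugate and each is central in a Sylow 2-subgroup. -/
theorem one_class [IsSimpleGroup G] (hG : Nat.card G = 175560) :
    ∃ t : G, orderOf t = 2 ∧ 8 ∣ Nat.card (Subgroup.centralizer ({t} : Set G)) ∧
      ∀ u : G, orderOf u = 2 → IsConj t u := by
  classical
  haveI : Fact (Nat.Prime 2) := ⟨Nat.prime_two⟩
  have hperf := commutator_eq_top hG
  obtain ⟨S⟩ : Nonempty (Sylow 2 G) := inferInstance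
  have h8 := card_sylow_two hG S
  have htoS : ∀ u : G, orderOf u = 2 → ∃ u' ∈ (S : Subgroup G), orderOf u' = 2 ∧ IsConj u u' := by
    intro u hu
    have hpg : IsPGroup 2 (Subgroup.zpowers u) := IsPGroup.of_card (n := 1) (by rw [Nat.card_zpowers, hu, pow_one])
    obtain ⟨Q, hQ⟩ := hpg.exists_le_sylow
    obtain ⟨g, hg⟩ := MulAction.exists_smul_eq G Q S
    refine ⟨g * u * g⁻¹, ?_, ?_, isConj_iff.2 ⟨g, rfl⟩⟩
    · rw [← hg, Sylow.smul_def]; exact ⟨u, hQ (Subgroup.mem_zpowers u), rfl⟩
    · rw [← MulAut.conj_apply, MulEquiv.orderOf_eq, hu]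
  have hcent : ∀ t : G, (∀ x ∈ (S : Subgroup G), x * t = t * x) →
      8 ∣ Nat.card (Subgroup.centralizer ({t} : Set G)) := fun t ht => by
    rw [← h8]
    exact Subgroup.card_dvd_of_le fun x hx => Subgroup.mem_centralizer_singleton_iff.2 (ht x hx)
  by_cases h4 : ∃ a ∈ (S : Subgroup G), orderOf a = 4
  · obtain ⟨a, haS, ha⟩ := h4
    have hTS : Subgroup.zpowers a ≤ S := Subgroup.zpowers_le.2 haS
    have hidx : ((Subgroup.zpowers a).subgroupOf (S : Subgroup G)).index = 2 := by
      have := ((Subgroup.zpowers a).subgroupOf (S : Subgroup G)).card_mul_index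
      rw [Nat.card_congr (Subgroup.subgroupOfEquivOfLe hTS).toEquiv, Nat.card_zpowers, ha,
        show Nat.card ↥(S : Subgroup G) = 8 from h8] at this
      omega
    haveI : ((Subgroup.zpowers a).subgroupOf (S : Subgroup G)).Normal := Subgroup.normal_of_index_eq_two hidx
    have hcyc : IsCyclic (↥(S : Subgroup G) ⧸ (Subgroup.zpowers a).subgroupOf (S : Subgroup G)) :=
      isCyclic_of_prime_card (p := 2) hidx
    have hinT : ∀ u ∈ Subgroup.zpowers a, orderOf u = 2 → u = a ^ 2 := by
      intro u hu hu2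
      obtain ⟨k, rfl⟩ := mem_powers_iff_mem_zpowers.2 hu
      show a ^ k = a ^ 2
      replace hu2 : orderOf (a ^ k) = 2 := hu2
      rw [← pow_mod_orderOf a k, ha] at hu2 ⊢
      have hk := Nat.mod_lt k (show 0 < 4 by norm_num)
      interval_cases h : k % 4
      · rw [pow_zero, orderOf_one] at hu2; omega
      · rw [pow_one, ha] at hu2; omega
      · rfl
      · rw [Nat.Coprime.orderOf_pow (by rw [ha]; norm_num), ha] at hu2; omega
    have ha2 : orderOf (a ^ 2) = 2 := by rw [orderOf_pow' a two_ne_zero, ha]; norm_num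
    refine ⟨a ^ 2, ha2, hcent _ fun x hx => ?_, fun u hu => ?_⟩
    · have hmem : x * a ^ 2 * x⁻¹ ∈ Subgroup.zpowers a := by
        have h := (inferInstance : ((Subgroup.zpowers a).subgroupOf (S : Subgroup G)).Normal).conj_mem
          ⟨a ^ 2, hTS (Subgroup.pow_mem _ (Subgroup.mem_zpowers a) 2)⟩
          (Subgroup.pow_mem _ (Subgroup.mem_zpowers a) 2) ⟨x, hx⟩
        exact h
      have := hinT _ hmem (by rw [← MulAut.conj_apply, MulEquiv.orderOf_eq, ha2])
      calc x * a ^ 2 = x * a ^ 2 * x⁻¹ * x := by group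
        _ = a ^ 2 * x := by rw [this]
    · obtain ⟨u', hu'S, hu', hc⟩ := htoS u hu
      refine IsConj.trans ?_ hc.symm
      by_cases hT : u' ∈ Subgroup.zpowers a
      · rw [hinT u' hT hu']
      · obtain ⟨g, hg, -, -⟩ := Fusion.extremal_transfer_cyclic hperf S _ hTS hcyc hu' hu'S hT
        rw [← hinT _ hg (by rw [← MulAut.conj_apply, MulEquiv.orderOf_eq, hu'])]
        exact (isConj_iff.2 ⟨g, rfl⟩ : IsConj u' _).symm
  · -- elementary abelian
    push_neg at h4
    have hexp : ∀ x ∈ (S : Subgroup G), x * x = 1 := by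
      intro x hx
      have hd : orderOf x ∣ 8 := h8 ▸ (S : Subgroup G).orderOf_dvd_natCard hx
      have hmem : orderOf x ∈ Nat.divisors 8 := Nat.mem_divisors.2 ⟨hd, by norm_num⟩
      rw [show Nat.divisors 8 = {1, 2, 4, 8} by decide] at hmem
      simp only [Finset.mem_insert, Finset.mem_singleton] at hmem
      rcases hmem with h | h | h | h
      · rw [orderOf_eq_one_iff.1 h, one_mul]
      · rw [← pow_two, ← h, pow_orderOf_eq_one]
      · exact absurd h (h4 x hx)
      · exfalso
        refine h4 (x ^ 2) (Subgroup.pow_mem _ hx 2) ?_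
        rw [orderOf_pow' x two_ne_zero, h]; norm_num
    have hcomm : ∀ x ∈ (S : Subgroup G), ∀ z ∈ (S : Subgroup G), x * z = z * x := fun x hx z hz => by
      calc x * z = (x * z)⁻¹ := (inv_eq_of_mul_eq_one_left (hexp _ (Subgroup.mul_mem _ hx hz))).symm
        _ = z * x := by rw [mul_inv_rev, inv_eq_of_mul_eq_one_left (hexp x hx), inv_eq_of_mul_eq_one_left (hexp z hz)]
    haveI : IsMulCommutative (S : Subgroup G) := ⟨⟨fun x z => Subtype.ext (hcomm _ x.2 _ z.2)⟩⟩
    set N := Subgroup.normalizer ((S : Subgroup G) : Set G) with hN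
    let X := {x : (S : Subgroup G) // x ≠ 1}
    -- the normaliser permutes the involutions of `S`
    letI act : MulAction N X :=
      { smul := fun n x => ⟨⟨(n : G) * (x.1 : G) * (n : G)⁻¹, (Subgroup.mem_normalizer_iff.1 n.2 _).1 x.1.2⟩,
          fun h => x.2 (Subtype.ext (conj_eq_one_iff.1 (congrArg Subtype.val h)))⟩
        one_smul := fun x => by apply Subtype.ext; apply Subtype.ext; show (1 : G) * _ * (1 : G)⁻¹ = _; group
        mul_smul := fun n m x => by
          apply Subtype.ext; apply Subtype.ext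
          show ((n : G) * m) * _ * ((n : G) * m)⁻¹ = (n : G) * ((m : G) * _ * (m : G)⁻¹) * (n : G)⁻¹
          group }
    have hX : Nat.card X = 7 := by
      haveI := Fintype.ofFinite (S : Subgroup G)
      rw [Nat.card_eq_fintype_card, Fintype.card_subtype_compl, Fintype.card_subtype_eq,
        ← Nat.card_eq_fintype_card, h8]
    have hodd : ∀ x : X, Odd (Nat.card (MulAction.orbit N x)) ∧ 3 ≤ Nat.card (MulAction.orbit N x) := by
      intro x
      have hst : (S : Subgroup G).subgroupOf N ≤ MulAction.stabilizer N x := fun n hn => by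
        apply Subtype.ext; apply Subtype.ext
        show (n : G) * (x.1 : G) * (n : G)⁻¹ = _
        rw [hcomm (n : G) hn _ x.1.2, mul_inv_cancel_right]
      have hd : Nat.card (MulAction.orbit N x) ∣ ((S : Subgroup G).subgroupOf N).index := by
        rw [Nat.card_coe_set_eq, ← MulAction.index_stabilizer]
        exact Subgroup.index_dvd_of_le hst
      have hodd' : ¬ 2 ∣ ((S : Subgroup G).subgroupOf N).index := by
        intro h
        have h2 := ((S : Subgroup G).subgroupOf N).card_mul_index
        rw [Nat.card_congr (Subgroup.subgroupOfEquivOfLe Subgroup.le_normalizer).toEquiv] at h2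
        have h16 : 16 ∣ Nat.card G := by
          refine dvd_trans ?_ (Subgroup.card_subgroup_dvd_card N)
          rw [← h2, show Nat.card ↥(S : Subgroup G) = 8 from h8]
          exact Nat.mul_dvd_mul_left 8 h
        rw [hG] at h16; norm_num at h16
      have hodd : Odd (Nat.card (MulAction.orbit N x)) :=
        Nat.odd_iff.2 (Nat.two_dvd_ne_zero.1 fun h => hodd' (h.trans hd))
      refine ⟨hodd, ?_⟩
      by_contra hlt
      have h1 : Nat.card (MulAction.orbit N x) = 1 := by
        have := Nat.odd_iff.1 hodd; omega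
      -- a fixed involution lies outside a subgroup of index two
      obtain ⟨T, hTc⟩ : ∃ T : Subgroup (S : Subgroup G), Nat.card T = 4 ∧ x.1 ∉ T := by
        obtain ⟨z, hz⟩ : ∃ z : (S : Subgroup G), z ∉ Subgroup.zpowers x.1 := by
          by_contra hc; push_neg at hc
          have := Subgroup.card_le_of_le (show (⊤ : Subgroup (S : Subgroup G)) ≤ Subgroup.zpowers x.1 from fun z _ => hc z)
          rw [Subgroup.card_top, Nat.card_zpowers, h8,
            orderOf_eq_two.2 ⟨Subtype.ext (hexp _ x.1.2), x.2⟩] at this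
          omega
        obtain ⟨w, hw⟩ : ∃ w : (S : Subgroup G), w ∉ ({1, x.1, z, x.1 * z} : Finset _) := by
          by_contra hc; push_neg at hc
          haveI := Fintype.ofFinite (S : Subgroup G)
          have := Finset.card_le_card (fun w _ => hc w : (Finset.univ : Finset (S : Subgroup G)) ⊆ _)
          rw [Finset.card_univ, ← Nat.card_eq_fintype_card, h8] at this
          exact absurd (this.trans (Finset.card_le_four)) (by norm_num)
        have hzz : z * z = 1 := Subtype.ext (hexp _ z.2)
        have hww : w * w = 1 := Subtype.ext (hexp _ w.2)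
        have hc : ∀ p q : (S : Subgroup G), p * q = q * p := fun p q => Subtype.ext (hcomm _ p.2 _ q.2)
        simp only [Finset.mem_insert, Finset.mem_singleton, not_or] at hw
        have hz' : z ≠ 1 ∧ z ≠ x.1 := ⟨fun h => hz (by rw [h]; exact one_mem _), fun h => hz (by rw [h]; exact Subgroup.mem_zpowers _)⟩
        let T : Subgroup (S : Subgroup G) :=
          { carrier := {q | q = 1 ∨ q = z ∨ q = w ∨ q = z * w}
            one_mem' := Or.inl rfl
            mul_mem' := by
              have hwz : ∀ r, w * (z * r) = z * (w * r) := fun r => by rw [← mul_assoc, hc w z, mul_assoc]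
              have hzz' : ∀ r, z * (z * r) = r := fun r => by rw [← mul_assoc, hzz, one_mul]
              have hww' : ∀ r, w * (w * r) = r := fun r => by rw [← mul_assoc, hww, one_mul]
              rintro p q (hp | hp | hp | hp) (hq | hq | hq | hq) <;>
                simp [hp, hq, mul_assoc, hwz, hzz', hww', hzz, hww, hc w z]
            inv_mem' := by
              intro q hq
              rw [inv_eq_of_mul_eq_one_left (Subtype.ext (hexp _ q.2) : q * q = 1)]; exact hq }
        have hzw : z * w ≠ 1 ∧ z * w ≠ z ∧ z * w ≠ w ∧ z ≠ w := by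
          refine ⟨fun h => hw.2.2.1 ?_, fun h => hw.1 (mul_eq_left.1 h), fun h => hz'.1 (mul_eq_right.1 h),
            fun h => hw.2.2.1 h.symm⟩
          rw [eq_inv_of_mul_eq_one_right h, inv_eq_of_mul_eq_one_left hzz]
        refine ⟨T, ?_, ?_⟩
        · have hT : (T : Set (S : Subgroup G)) = ↑({1, z, w, z * w} : Finset (S : Subgroup G)) := by
            ext q; simp [T, Finset.mem_insert, Finset.mem_singleton]
          rw [show Nat.card T = (T : Set (S : Subgroup G)).ncard from Nat.card_coe_set_eq _, hT, Set.ncard_coe_finset]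
          rw [Finset.card_insert_of_notMem, Finset.card_insert_of_notMem, Finset.card_insert_of_notMem,
            Finset.card_singleton] <;> simp [hz'.1.symm, Ne.symm hw.1, hzw.1.symm, hzw.2.2.2, hzw.2.1.symm, hzw.2.2.1.symm]
        · rintro (h | h | h | h)
          · exact x.2 h
          · exact hz'.2 h.symm
          · exact hw.2.1 h.symm
          · refine hw.2.2.2 ?_
            rw [h, hc z w, mul_assoc, hzz, mul_one]
      have hTS : T.map (S : Subgroup G).subtype ≤ S := Subgroup.map_subtype_le T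
      have hsub : (T.map (S : Subgroup G).subtype).subgroupOf (S : Subgroup G) = T :=
        Subgroup.comap_map_eq_self_of_injective (Subgroup.subtype_injective _) T
      haveI : ((T.map (S : Subgroup G).subtype).subgroupOf (S : Subgroup G)).Normal :=
        ⟨fun q hq g => by rw [show g * q * g⁻¹ = q from Subtype.ext (by
          show (g : G) * q * (g : G)⁻¹ = q
          rw [hcomm _ g.2 _ q.2, mul_inv_cancel_right])]; exact hq⟩
      have hcyc : IsCyclic (↥(S : Subgroup G) ⧸ (T.map (S : Subgroup G).subtype).subgroupOf (S : Subgroup G)) := by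
        refine isCyclic_of_prime_card (p := 2) ?_
        show Subgroup.index _ = 2
        rw [hsub]
        have := T.card_mul_index
        rw [hTc.1, h8] at this
        omega
      obtain ⟨g, hg, -, -⟩ := Fusion.extremal_transfer_cyclic hperf S _ hTS hcyc
        (y := (x.1 : G)) (orderOf_eq_two.2 ⟨hexp _ x.1.2, fun h => x.2 (Subtype.ext h)⟩) x.1.2
        (fun h => hTc.2 (by obtain ⟨q, hq, e⟩ := h; exact (Subtype.ext e : q = x.1) ▸ hq))
      have hgS := hTS hg
      obtain ⟨n, hn, hne⟩ := S.conj_eq_normalizer_conj_of_mem (x.1 : G) g⁻¹ x.1.2 (by rw [inv_inv]; exact hgS)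
      rw [inv_inv] at hne
      rw [hne] at hg
      have hfix : (⟨n⁻¹, Subgroup.inv_mem _ hn⟩ : N) • x = x := by
        have hsub' : Subsingleton (MulAction.orbit N x) := (Nat.card_eq_one_iff_unique.1 h1).1
        exact congrArg Subtype.val (hsub'.elim ⟨_, MulAction.mem_orbit x _⟩ ⟨x, MulAction.mem_orbit_self x⟩)
      have h3 := congrArg (fun z : X => ((z.1 : (S : Subgroup G)) : G)) hfix
      change n⁻¹ * (x.1 : G) * (n⁻¹)⁻¹ = (x.1 : G) at h3
      rw [inv_inv] at h3
      rw [h3] at hg
      obtain ⟨q, hq, e⟩ := hg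
      exact hTc.2 ((Subtype.ext e : q = x.1) ▸ hq)
    obtain ⟨⟨x0⟩, -⟩ : Nonempty X ∧ Finite X := by
      have := Nat.card_pos_iff.1 (show 0 < Nat.card X by omega); exact this
    have hone : ∀ x : X, x ∈ MulAction.orbit N x0 := by
      intro x
      by_contra hx
      have hdis : Disjoint (MulAction.orbit N x0) (MulAction.orbit N x) :=
        (MulAction.orbit.pairwiseDisjoint (Set.mem_range_self x0) (Set.mem_range_self x) fun h => hx (by
          rw [show MulAction.orbit N x0 = MulAction.orbit N x from h]; exact MulAction.mem_orbit_self x))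
      have hu := Set.ncard_union_eq hdis
      have hle := Set.ncard_le_ncard (Set.subset_univ (MulAction.orbit N x0 ∪ MulAction.orbit N x))
      rw [Set.ncard_univ, hX, hu] at hle
      obtain ⟨⟨a, ha⟩, a3⟩ := hodd x0
      obtain ⟨⟨b, hb⟩, b3⟩ := hodd x
      rw [Nat.card_coe_set_eq] at ha hb a3 b3
      -- a third orbit would be needed
      obtain ⟨z, hz⟩ : ∃ z : X, z ∉ MulAction.orbit N x0 ∪ MulAction.orbit N x := by
        by_contra hc; push_neg at hc
        have hh := Set.ncard_le_ncard (show (Set.univ : Set X) ⊆ MulAction.orbit N x0 ∪ MulAction.orbit N x from fun z _ => hc z)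
        rw [Set.ncard_univ, hX, hu] at hh
        omega
      obtain ⟨-, c3⟩ := hodd z
      rw [Nat.card_coe_set_eq] at c3
      have hdis2 : Disjoint (MulAction.orbit N x0 ∪ MulAction.orbit N x) (MulAction.orbit N z) := by
        rw [Set.disjoint_union_left]
        constructor <;>
        · refine MulAction.orbit.pairwiseDisjoint (Set.mem_range_self _) (Set.mem_range_self z) fun h => hz ?_
          have hzz : z ∈ MulAction.orbit N z := MulAction.mem_orbit_self z
          first
            | exact Or.inl ((Set.ext_iff.1 h z).2 hzz)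
            | exact Or.inr ((Set.ext_iff.1 h z).2 hzz)
      have hu2 := Set.ncard_union_eq hdis2
      have hle2 := Set.ncard_le_ncard (Set.subset_univ (MulAction.orbit N x0 ∪ MulAction.orbit N x ∪ MulAction.orbit N z))
      rw [Set.ncard_univ, hX, hu2, hu] at hle2
      omega
    have hx0 : orderOf ((x0.1 : (S : Subgroup G)) : G) = 2 :=
      orderOf_eq_two.2 ⟨hexp _ x0.1.2, fun h => x0.2 (Subtype.ext h)⟩
    refine ⟨_, hx0, hcent _ fun x hx => hcomm _ hx _ x0.1.2, fun u hu => ?_⟩
    obtain ⟨u', hu'S, hu', hc⟩ := htoS u hu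
    obtain ⟨n, hn⟩ := hone ⟨⟨u', hu'S⟩, fun h => by
      rw [show u' = 1 from congrArg Subtype.val h, orderOf_one] at hu'; omega⟩
    refine IsConj.trans (isConj_iff.2 ⟨(n : G), ?_⟩) hc.symm
    exact congrArg (fun z : X => ((z.1 : (S : Subgroup G)) : G)) hn

theorem card_cent_two [IsSimpleGroup G] (hG : Nat.card G = 175560) :
    ∃ d, d ∣ 21945 ∧ invCount G * d = 21945 ∧ (∃ t : G, orderOf t = 2) ∧
      ∀ u : G, orderOf u = 2 → Nat.card (Subgroup.centralizer ({u} : Set G)) = 8 * d := by
  obtain ⟨t, ht, ⟨d, hd⟩, hc⟩ := one_class hG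
  have hI : invCount G = Nat.card {x : G // IsConj t x} := Nat.card_congr (Equiv.subtypeEquivRight fun x =>
    ⟨hc x, fun h => by
      obtain ⟨g, rfl⟩ := isConj_iff.1 h
      rw [← MulAut.conj_apply, MulEquiv.orderOf_eq, ht]⟩)
  have hmul : Nat.card {x : G // IsConj t x} * Nat.card (Subgroup.centralizer ({t} : Set G)) = 175560 := by
    rw [card_conjClass_mul_centralizer t, hG]
  rw [hd] at hmul
  have hId : invCount G * d = 21945 := by
    rw [hI]
    nlinarith
  refine ⟨d, Dvd.intro_left _ hId, hId, ⟨t, ht⟩, fun u hu => ?_⟩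
  obtain ⟨g, rfl⟩ := isConj_iff.1 (hc u hu)
  rw [← hd]
  have he : (Subgroup.centralizer ({t} : Set G)).map (MulAut.conj g).toMonoidHom =
      Subgroup.centralizer ({g * t * g⁻¹} : Set G) := by
    ext x
    rw [Subgroup.mem_centralizer_singleton_iff, Subgroup.mem_map_equiv, Subgroup.mem_centralizer_singleton_iff,
      MulAut.conj_symm_apply]
    constructor
    · intro e
      calc x * (g * t * g⁻¹) = g * (g⁻¹ * x * g * t) * g⁻¹ := by group
        _ = g * (t * (g⁻¹ * x * g)) * g⁻¹ := by rw [e]
        _ = g * t * g⁻¹ * x := by group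
    · intro e
      calc g⁻¹ * x * g * t = g⁻¹ * (x * (g * t * g⁻¹)) * g := by group
        _ = g⁻¹ * (g * t * g⁻¹ * x) * g := by rw [e]
        _ = t * (g⁻¹ * x * g) := by group
  rw [← he, Subgroup.card_map_of_injective (MulAut.conj g).injective]

end Cfsg.Agent.Lead.JankoOrder
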