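import Cfsg.Agent.Lib.Lead.JankoOrder.Local

/-!
# Simple groups of order 175560: the centraliser of an involution has order 120
-/

set_option autoImplicit false
set_option linter.style.haveILetI false
set_option synthInstance.maxSize 2000
set_option synthInstance.maxHeartbeats 200000

namespace Cfsg.Agent.Lead.JankoOrder

open Cfsg.Agent.Char

universe u

variable {G : Type u} [Group G] [Finite G]

theorem prime_data [IsSimpleGroup G] (hG : Nat.card G = 175560) (p : ℕ) (hp : p ∈ [3, 5, 7, 11, 19]) :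
    ∃ n e k, PrimeData G p n e k := by
  simp only [List.mem_cons, List.not_mem_nil, or_false] at hp
  have h19 : 19 ∣ Nat.card G := by rw [hG]; norm_num
  rcases hp with rfl | rfl | rfl | rfl | rfl
  · haveI : Fact (Nat.Prime 3) := ⟨by norm_num⟩
    exact exists_primeData (m := 58520) (by rw [hG]) (by norm_num) (by norm_num) h19
  · haveI : Fact (Nat.Prime 5) := ⟨by norm_num⟩
    exact exists_primeData (m := 35112) (by rw [hG]) (by norm_num) (by norm_num) h19
  · haveI : Fact (Nat.Prime 7) := ⟨by norm_num⟩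
    exact exists_primeData (m := 25080) (by rw [hG]) (by norm_num) (by norm_num) h19
  · haveI : Fact (Nat.Prime 11) := ⟨by norm_num⟩
    exact exists_primeData (m := 15960) (by rw [hG]) (by norm_num) (by norm_num) h19
  · haveI : Fact (Nat.Prime 19) := ⟨by norm_num⟩
    exact exists_primeData (m := 9240) (by rw [hG]) (by norm_num) (by norm_num) h19

theorem cross_data {p q n e k n' e' k' : ℕ} [Fact p.Prime] [Fact q.Prime] (D : PrimeData G p n e k)
    (D' : PrimeData G q n' e' k') (hpq : p ≠ q) (h : q ∣ k) : p ∣ k' := by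
  obtain ⟨P, hP, -, hk, -⟩ := D.syl
  obtain ⟨Q, hQ, -, hk', -⟩ := D'.syl
  have h' := PrimeSylowCount.cross P Q hP hQ (hk ▸ dvd_mul_of_dvd_right h p)
  rw [hk'] at h'
  exact ((Fact.out : p.Prime).dvd_mul.1 h').resolve_left fun h2 =>
    hpq ((Nat.prime_dvd_prime_iff_eq Fact.out Fact.out).1 h2)

theorem exists_orderOf {p n e k : ℕ} [Fact p.Prime] (D : PrimeData G p n e k) : ∃ x : G, orderOf x = p :=
  exists_prime_orderOf_dvd_card' p (Dvd.intro _ D.hnek)

theorem one_lt_invCount [IsSimpleGroup G] (hG : Nat.card G = 175560) (d : ℕ) (ht : ∃ t : G, orderOf t = 2)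
    (hI : invCount G * d = 21945)
    (hd : ∀ u : G, orderOf u = 2 → Nat.card (Subgroup.centralizer ({u} : Set G)) = 8 * d) : 1 < invCount G := by
  obtain ⟨t, ht⟩ := ht
  by_contra h
  have h1 : invCount G = 1 := by
    rcases Nat.eq_zero_or_pos (invCount G) with h0 | h0
    · rw [h0, zero_mul] at hI; omega
    · omega
  rw [h1, one_mul] at hI
  have htop : Subgroup.centralizer ({t} : Set G) = ⊤ :=
    Subgroup.eq_top_of_card_eq _ (by rw [hd t ht, hI, hG])
  have hz : t ∈ Subgroup.center G := Subgroup.mem_center_iff.2 fun g =>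
    Subgroup.mem_centralizer_singleton_iff.1 (htop ▸ Subgroup.mem_top g)
  rcases IsSimpleGroup.eq_bot_or_eq_top_of_normal (Subgroup.center G) inferInstance with hc | hc
  · rw [hc, Subgroup.mem_bot] at hz
    rw [hz, orderOf_one] at ht
    omega
  · refine Lead.BlockDeg.not_comm (p := 19) (m := 9240) (G := G) (by norm_num) (by rw [hG]) (by norm_num) ⟨⟨fun a b => ?_⟩⟩
    exact (Subgroup.mem_center_iff.1 (hc ▸ Subgroup.mem_top b) a)

variable {d : ℕ} (hd : ∀ u : G, orderOf u = 2 → Nat.card (Subgroup.centralizer ({u} : Set G)) = 8 * d)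

include hd in
/-- The involutions fixed by an element of order nineteen. -/
theorem residue {n e a : ℕ} (D : PrimeData G 19 n e (2 * a)) (ha : ¬ 2 ∣ a) (ha0 : a ∣ 11) :
    ∃ r, r ∣ a ∧ invCount G % 19 = r % 19 ∧ 19 ∣ d ∧ (r = 1 → a ∣ d) := by
  classical
  haveI : Fact (Nat.Prime 19) := ⟨by norm_num⟩
  haveI : Fact (Nat.Prime 2) := ⟨Nat.prime_two⟩
  obtain ⟨y, hy⟩ := exists_orderOf D
  have h19 : 19 ∣ d := even_cent hd D (by norm_num) hy (dvd_mul_right 2 a)
  set C := Subgroup.centralizer ({y} : Set G) with hC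
  have hcard : Nat.card C = 19 * (2 * a) := D.cent y hy
  obtain ⟨h, hh⟩ := exists_prime_orderOf_dvd_card' (G := C) 2
    (by rw [hcard]; exact dvd_mul_of_dvd_right (dvd_mul_right 2 a) 19)
  have ho : ∀ s : C, orderOf s = 2 → IsConj h s := by
    intro s hs
    have hS : ∀ w : C, orderOf w = 2 → ∃ S : Sylow 2 C, (S : Subgroup C) = Subgroup.zpowers w := fun w hw => by
      have hcard2 : Nat.card C = 2 ^ 1 * (19 * a) := by rw [hcard]; ring
      have hna : ¬ 2 ∣ 19 * a := fun h2 => ha ((Nat.prime_two.dvd_mul.1 h2).resolve_left (by norm_num))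
      refine ⟨Sylow.ofCard (Subgroup.zpowers w) ?_, rfl⟩
      rw [Nat.card_zpowers, hw, hcard2, Nat.factorization_mul (by norm_num) (fun h0 => hna (by rw [h0]; exact dvd_zero 2)),
        Finsupp.add_apply, Nat.Prime.factorization_pow Nat.prime_two, Finsupp.single_eq_same,
        Nat.factorization_eq_zero_of_not_dvd hna, add_zero, pow_one]
    obtain ⟨S, hS1⟩ := hS h hh
    obtain ⟨T, hT1⟩ := hS s hs
    obtain ⟨g, hg⟩ := MulAction.exists_smul_eq C S T
    refine isConj_iff.2 ⟨g, ?_⟩
    have hmem : g * h * g⁻¹ ∈ Subgroup.zpowers s := by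
      rw [← hT1, ← hg, Sylow.smul_def]; exact ⟨h, hS1 ▸ Subgroup.mem_zpowers h, rfl⟩
    obtain ⟨i, hi⟩ := mem_powers_iff_mem_zpowers.2 hmem
    replace hi : s ^ i = g * h * g⁻¹ := hi
    rw [← hi]
    rw [← pow_mod_orderOf, hs] at hi ⊢
    rcases Nat.mod_two_eq_zero_or_one i with hi2 | hi2 <;> rw [hi2] at hi ⊢
    · rw [pow_zero, eq_comm, conj_eq_one_iff] at hi
      rw [hi, orderOf_one] at hh; omega
    · exact pow_one s
  set Z := Subgroup.centralizer ({h} : Set C) with hZ
  have hr : Nat.card {s : C // orderOf s = 2} = Z.index := by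
    rw [← card_conjClass_eq_index]
    refine Nat.card_congr (Equiv.subtypeEquivRight fun s => ⟨ho s, fun hc => ?_⟩)
    obtain ⟨g, rfl⟩ := isConj_iff.1 hc
    rw [← MulAut.conj_apply, MulEquiv.orderOf_eq, hh]
  have h38 : 38 ∣ Nat.card Z := by
    refine Nat.Coprime.mul_dvd_of_dvd_of_dvd (by norm_num : Nat.Coprime 19 2) ?_ ?_
    · have : orderOf (⟨y, Subgroup.mem_centralizer_singleton_iff.2 rfl⟩ : C) = 19 := by rw [Subgroup.orderOf_mk, hy]
      rw [← this]
      refine Subgroup.orderOf_dvd_natCard _ (Subgroup.mem_centralizer_singleton_iff.2 (Subtype.ext ?_))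
      exact (Subgroup.mem_centralizer_singleton_iff.1 h.2).symm
    · rw [← hh]
      exact Subgroup.orderOf_dvd_natCard _ (Subgroup.mem_centralizer_singleton_iff.2 rfl)
  have hra : Z.index ∣ a := by
    obtain ⟨c, hc⟩ := h38
    have := Z.card_mul_index
    rw [hc, hcard, show 19 * (2 * a) = 38 * a by ring, mul_assoc] at this
    exact Dvd.intro_left c (Nat.eq_of_mul_eq_mul_left (by norm_num) this)
  refine ⟨Z.index, hra, ?_, h19, fun h1 => ?_⟩
  · -- conjugation by `y` on the involutions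
    letI act : MulAction (Subgroup.zpowers y) {s : G // orderOf s = 2} :=
      { smul := fun g s => ⟨(g : G) * s.1 * (g : G)⁻¹, by rw [← MulAut.conj_apply, MulEquiv.orderOf_eq, s.2]⟩
        one_smul := fun s => by apply Subtype.ext; show (1 : G) * _ * (1 : G)⁻¹ = _; group
        mul_smul := fun g g' s => by
          apply Subtype.ext
          show ((g : G) * g') * _ * ((g : G) * g')⁻¹ = (g : G) * ((g' : G) * _ * (g' : G)⁻¹) * (g : G)⁻¹
          group }
    have hzp : IsPGroup 19 (Subgroup.zpowers y) := IsPGroup.of_card (n := 1) (by rw [Nat.card_zpowers, hy, pow_one])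
    have hfix := hzp.card_modEq_card_fixedPoints {s : G // orderOf s = 2}
    unfold invCount
    rw [hfix, ← hr]
    congr 1
    refine Nat.card_congr ⟨fun s => ⟨⟨s.1.1, ?_⟩, by rw [Subgroup.orderOf_mk]; exact s.1.2⟩,
      fun s => ⟨⟨s.1.1, by rw [Subgroup.orderOf_coe]; exact s.2⟩, fun g => ?_⟩, fun s => rfl, fun s => rfl⟩
    · rw [hC, Subgroup.mem_centralizer_singleton_iff]
      have := congrArg Subtype.val (s.2 ⟨y, Subgroup.mem_zpowers y⟩)
      change y * s.1.1 * y⁻¹ = s.1.1 at this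
      calc s.1.1 * y = y * s.1.1 * y⁻¹ * y := by rw [this]
        _ = y * s.1.1 := by group
    · apply Subtype.ext
      show (g : G) * s.1.1 * (g : G)⁻¹ = s.1.1
      obtain ⟨i, hi⟩ := mem_powers_iff_mem_zpowers.2 g.2
      rw [← hi]
      rw [← ((Subgroup.mem_centralizer_singleton_iff.1 s.1.2 : (s.1.1 : G) * y = y * s.1.1) |>
        fun e => (Commute.pow_right (show Commute (s.1.1 : G) y from e) i).eq)]
      group
  · rcases (Nat.dvd_prime (show Nat.Prime 11 by norm_num)).1 ha0 with rfl | rfl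
    · exact one_dvd d
    · haveI : Fact (Nat.Prime 11) := ⟨by norm_num⟩
      obtain ⟨z, hz⟩ := exists_prime_orderOf_dvd_card' (G := C) 11 (by rw [hcard]; norm_num)
      have hzZ : z ∈ Z := (Subgroup.index_eq_one.1 h1) ▸ Subgroup.mem_top z
      refine dvd_of_commute hd (by norm_num) (by norm_num) (u := (h : G)) (z := (z : G))
        (by rw [Subgroup.orderOf_coe, hh]) (by rw [Subgroup.orderOf_coe, hz]) ?_
      exact congrArg Subtype.val (Subgroup.mem_centralizer_singleton_iff.1 hzZ)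

theorem residue_table : ∀ d ∈ Nat.divisors 21945, 19 ∣ d → 21945 / d % 19 = 11 % 19 → 21945 / d = 11 := by
  decide +kernel

theorem residue_table_one : ∀ d ∈ Nat.divisors 21945, 19 ∣ d → 21945 / d % 19 = 1 →
    21945 / d = 1 ∨ (21945 / d = 77 ∧ ¬ 11 ∣ d) := by
  decide +kernel

include hd in
/-- The Sylow 19 data. -/
theorem nineteen [IsSimpleGroup G] (hG : Nat.card G = 175560) (hI : invCount G * d = 21945)
    (ht : ∃ t : G, orderOf t = 2) :
    ∃ e k, PrimeData G 19 1540 e k ∧ k ∈ [1, 3] ∧ 2 ∣ e := by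
  haveI : Fact (Nat.Prime 19) := ⟨by norm_num⟩
  haveI : Fact (Nat.Prime 11) := ⟨by norm_num⟩
  obtain ⟨n, e, k, D⟩ := prime_data hG 19 (by simp)
  have hm : n * e * k = 9240 := by have := D.hnek; rw [hG] at this; omega
  have hdd : d ∈ Nat.divisors 21945 := Nat.mem_divisors.2 ⟨Dvd.intro_left _ hI, by norm_num⟩
  have hIv : invCount G = 21945 / d := by
    rw [← hI, Nat.mul_div_cancel]
    exact Nat.pos_of_ne_zero fun h => by rw [h, mul_zero] at hI; omega
  have hI1 := one_lt_invCount hG d ht hI hd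
  have key : ∀ n ∈ Nat.divisors 9240, ∀ e ∈ Nat.divisors 18, n % 19 = 1 → 19 ≤ n → 2 ≤ e → n * e ∣ 9240 →
      n = 77 ∧ e ∈ [2, 3, 6] ∨ n = 210 ∧ e = 2 ∨ n = 1540 ∧ e ∈ [2, 3, 6] ∨ n = 20 := by decide +kernel
  have := key n (Nat.mem_divisors.2 ⟨Dvd.intro (e * k) (by rw [← hm]; ring), by norm_num⟩) e
    (Nat.mem_divisors.2 ⟨D.edvd, by norm_num⟩) D.nmod D.big D.two_le (Dvd.intro k hm)
  rcases this with ⟨rfl, he⟩ | ⟨rfl, rfl⟩ | ⟨rfl, he⟩ | rfl
  · exfalso
    obtain ⟨P, hP, hn, -, hrel⟩ := D.syl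
    have hna : ¬ IsMulCommutative G := Lead.BlockDeg.not_comm (p := 19) (m := 9240) (by norm_num) (by rw [hG]) (by norm_num)
    have he' : e = 2 ∨ e = 3 ∨ e = 6 := by simpa using he
    obtain ⟨l, t, hl, hs, htd, -, hsum⟩ := Lead.BlockDeg.degree_equation hna P hP hrel (by omega) (by omega)
    have hall : ∀ s ∈ l, s = 77 := by
      intro s hs'
      obtain ⟨h1, h2, -, h4⟩ := hs s hs'
      rw [hn] at h4
      have key : ∀ e ∈ ({2, 3, 6} : Finset ℕ), ∀ d ∈ Nat.divisors (77 * e), 1 < d →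
          (d % 19 = 1 → d = 77) ∧ d % 19 ≠ 18 := by decide +kernel
      have h5 := key e (by simp [he']) s.natAbs (Nat.mem_divisors.2 ⟨h4, by omega⟩) h2
      obtain ⟨h6, h7⟩ := h5
      omega
    rw [List.eq_replicate_iff.2 ⟨hl, hall⟩, List.sum_replicate, nsmul_eq_mul] at hsum
    rw [hG, hsum] at htd
    rcases he' with rfl | rfl | rfl <;> norm_num at htd
  · exfalso
    have hk : k = 2 * 11 := by omega
    subst hk
    obtain ⟨r, hr, hmod, h19, h1⟩ := residue hd D (by norm_num) dvd_rfl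
    rw [hIv] at hmod hI1
    rcases (Nat.dvd_prime (show Nat.Prime 11 by norm_num)).1 hr with rfl | rfl
    · rcases residue_table_one d hdd h19 (by rw [hmod]) with h | ⟨-, h⟩
      · omega
      · exact h (h1 rfl)
    · have h := residue_table d hdd h19 hmod
      have key : ∀ d ∈ Nat.divisors 21945, 21945 / d = 11 → d = 1995 := by decide +kernel
      have hd' := key d hdd h
      obtain ⟨t, ht⟩ := ht
      have hidx : (Subgroup.centralizer ({t} : Set G)).index = 11 := by
        have := (Subgroup.centralizer ({t} : Set G)).card_mul_index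
        rw [hd t ht, hd', hG] at this
        omega
      obtain ⟨f, hf, -⟩ := Small.SimpleOrderTools.card_dvd_half_factorial
        (Lead.BlockDeg.not_comm (p := 19) (m := 9240) (G := G) (by norm_num) (by rw [hG]) (by norm_num))
        _ (fun htop : Subgroup.centralizer ({t} : Set G) = ⊤ => by rw [htop, Subgroup.index_top] at hidx; omega)
      have hdv := Subgroup.card_dvd_of_injective f hf
      rw [Nat.card_perm, Nat.card_fin, hidx, hG] at hdv
      norm_num [Nat.factorial] at hdv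
  · have he' : e = 2 ∨ e = 3 ∨ e = 6 := by simpa using he
    rcases he' with rfl | rfl | rfl
    · exact ⟨2, k, D, by simp; omega, dvd_rfl⟩
    · exfalso
      have hk : k = 2 * 1 := by omega
      subst hk
      obtain ⟨r, hr, hmod, h19, -⟩ := residue hd D (by norm_num) (one_dvd 11)
      rw [Nat.dvd_one.1 hr, hIv] at hmod
      rw [hIv] at hI1
      rcases residue_table_one d hdd h19 hmod with h | ⟨h77, h11⟩
      · omega
      obtain ⟨n', e', k', D'⟩ := prime_data hG 11 (by simp)
      have hk' : ¬ 2 ∣ k' := fun h => by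
        obtain ⟨x, hx⟩ := exists_orderOf D'
        exact h11 (even_cent hd D' (by norm_num) hx h)
      have hc : ¬ 19 ∣ k' := fun h => absurd (cross_data D' D (by norm_num) h) (by norm_num)
      have hm' : n' * e' * k' = 15960 := by have := D'.hnek; rw [hG] at this; omega
      have key : ∀ n ∈ Nat.divisors 15960, ∀ e ∈ Nat.divisors 10, n % 11 = 1 → 19 ≤ n → 2 ≤ e → n * e ∣ 15960 →
          ¬ 2 ∣ 15960 / (n * e) → ¬ 19 ∣ 15960 / (n * e) → 2 ∣ e ∧ 77 * 77 < n * 10 * 11 := by decide +kernel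
      have hke : 15960 / (n' * e') = k' := by
        rw [← hm', Nat.mul_div_cancel_left]
        exact Nat.pos_of_ne_zero fun h => by rw [h, zero_mul] at hm'; omega
      obtain ⟨he2, hlt⟩ := key n' (Nat.mem_divisors.2 ⟨Dvd.intro (e' * k') (by rw [← hm']; ring), by norm_num⟩) e'
        (Nat.mem_divisors.2 ⟨D'.edvd, by norm_num⟩) D'.nmod D'.big D'.two_le (Dvd.intro k' hm')
        (hke ▸ hk') (hke ▸ hc)
      have := pairs_lower D' (by norm_num) hk' he2
      rw [hIv, h77] at this
      omega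
    · exact ⟨6, k, D, by simp; omega, by norm_num⟩
  · exfalso
    obtain ⟨P, hP, hn, hk, -⟩ := D.syl
    have := OrderJanko.cent_twenty P hP hn
    rw [hk] at this
    have h18 := Nat.le_of_dvd (by norm_num) D.edvd
    rcases Nat.eq_zero_or_pos k with h0 | h0
    · subst h0; omega
    · have : k = 1 := by omega
      subst this
      omega

/-- The order `8 d` of an involution centraliser. -/
theorem d_small [IsSimpleGroup G] (hG : Nat.card G = 175560) (hI : invCount G * d = 21945) {e k : ℕ}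
    (D : PrimeData G 19 1540 e k) (hk : k ∈ [1, 3]) (he : 2 ∣ e) : d ∈ [1, 3, 5, 7, 11, 15, 19, 21] := by
  haveI : Fact (Nat.Prime 19) := ⟨by norm_num⟩
  have hko : ¬ 2 ∣ k := by
    simp only [List.mem_cons, List.not_mem_nil, or_false] at hk
    omega
  have h := pairs_lower D (by norm_num) hko he
  have hd30 : d ≤ 30 := by
    by_contra hcon
    have h31 : 31 ≤ d := by omega
    have h1 : invCount G ≤ 707 := by
      have := Nat.mul_le_mul_left (invCount G) h31
      omega
    have := Nat.mul_le_mul h1 h1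
    omega
  have key : ∀ d ∈ Nat.divisors 21945, d ≤ 30 → d ∈ [1, 3, 5, 7, 11, 15, 19, 21] := by decide +kernel
  exact key d (Nat.mem_divisors.2 ⟨Dvd.intro_left _ hI, by norm_num⟩) hd30

include hd in
theorem not_nineteen {e k : ℕ} (D : PrimeData G 19 1540 e k) (hk : k ∈ [1, 3]) (ht : ∃ t : G, orderOf t = 2) :
    d ≠ 19 := by
  rintro rfl
  haveI : Fact (Nat.Prime 19) := ⟨by norm_num⟩
  obtain ⟨t, ht⟩ := ht
  obtain ⟨⟨x, hxC⟩, hx⟩ := exists_prime_orderOf_dvd_card' 19
    (show 19 ∣ Nat.card (Subgroup.centralizer ({t} : Set G)) by rw [hd t ht]; norm_num)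
  rw [Subgroup.orderOf_mk] at hx
  have h2 : 2 ∣ 19 * k := by
    rw [← D.cent x hx, ← ht]
    exact Subgroup.orderOf_dvd_natCard _ (Subgroup.mem_centralizer_singleton_iff.2
      (Subgroup.mem_centralizer_singleton_iff.1 hxC).symm)
  simp only [List.mem_cons, List.not_mem_nil, or_false] at hk
  omega

include hd in
/-- No cyclic normal subgroup of order five, seven or eleven in an involution centraliser. -/
theorem no_normal [IsSimpleGroup G] (hG : Nat.card G = 175560) {e0 k0 : ℕ} (D0 : PrimeData G 19 1540 e0 k0)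
    (hk0 : k0 ∈ [1, 3]) {p : ℕ} (hp : p = 5 ∨ p = 7 ∨ p = 11) (hd5 : p = 11 → ¬ 5 ∣ d) {u x : G}
    (hu : orderOf u = 2) (hx : orderOf x = p) (hxC : x * u = u * x)
    (hn : ∀ g ∈ Subgroup.centralizer ({u} : Set G), g ∈ Subgroup.normalizer (Subgroup.zpowers x : Set G)) : False := by
  haveI : Fact (Nat.Prime 19) := ⟨by norm_num⟩
  haveI : Fact (Nat.Prime 11) := ⟨by norm_num⟩
  simp only [List.mem_cons, List.not_mem_nil, or_false] at hk0
  haveI : Fact p.Prime := ⟨by rcases hp with rfl | rfl | rfl <;> norm_num⟩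
  obtain ⟨n, e, k, D⟩ := prime_data hG p (by simp; tauto)
  obtain ⟨hk2, h8⟩ := normal_in_cent hd D (by omega) hu hx hxC hn
  have hc : ¬ 19 ∣ k := fun h => by
    have := cross_data D D0 (by omega) h
    rcases hp with rfl | rfl | rfl <;> omega
  have hm : n * e * k = 175560 / p := by
    rw [← hG, ← D.hnek, Nat.mul_div_cancel_left _ (Fact.out : p.Prime).pos]
  rcases hp with rfl | rfl | rfl
  · have key : ∀ n ∈ Nat.divisors 35112, ∀ e ∈ Nat.divisors 4, n % 5 = 1 → 2 ≤ e → n * e ∣ 35112 →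
        ¬ 19 ∣ 35112 / (n * e) → 8 ∣ 35112 / (n * e) * e → False := by decide +kernel
    have hm' : n * e * k = 35112 := by omega
    have hke : 35112 / (n * e) = k := by
      rw [← hm', Nat.mul_div_cancel_left]
      exact Nat.pos_of_ne_zero fun h => by rw [h, zero_mul] at hm'; omega
    exact key n (Nat.mem_divisors.2 ⟨Dvd.intro (e * k) (by rw [← hm']; ring), by norm_num⟩) e
      (Nat.mem_divisors.2 ⟨D.edvd, by norm_num⟩) D.nmod D.two_le (Dvd.intro k hm') (by rw [hke]; exact hc)
      (by rw [hke]; exact h8)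
  · have key : ∀ n ∈ Nat.divisors 25080, ∀ e ∈ Nat.divisors 6, n % 7 = 1 → 2 ≤ e → n * e ∣ 25080 →
        ¬ 19 ∣ 25080 / (n * e) → 8 ∣ 25080 / (n * e) * e → 11 ∣ 25080 / (n * e) := by decide +kernel
    have hm' : n * e * k = 25080 := by omega
    have hke : 25080 / (n * e) = k := by
      rw [← hm', Nat.mul_div_cancel_left]
      exact Nat.pos_of_ne_zero fun h => by rw [h, zero_mul] at hm'; omega
    have h11 := key n (Nat.mem_divisors.2 ⟨Dvd.intro (e * k) (by rw [← hm']; ring), by norm_num⟩) e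
      (Nat.mem_divisors.2 ⟨D.edvd, by norm_num⟩) D.nmod D.two_le (Dvd.intro k hm') (by rw [hke]; exact hc)
      (by rw [hke]; exact h8)
    rw [hke] at h11
    obtain ⟨n', e', k', D'⟩ := prime_data hG 11 (by simp)
    have h7 := cross_data D D' (by norm_num) h11
    have hc' : ¬ 19 ∣ k' := fun h => by
      have := cross_data D' D0 (by norm_num) h
      omega
    have hm'' : n' * e' * k' = 15960 := by have := D'.hnek; rw [hG] at this; omega
    have key' : ∀ n ∈ Nat.divisors 15960, ∀ e ∈ Nat.divisors 10, n % 11 = 1 → 19 ≤ n → 2 ≤ e → n * e ∣ 15960 →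
        ¬ 19 ∣ 15960 / (n * e) → 7 ∣ 15960 / (n * e) → False := by decide +kernel
    have hke' : 15960 / (n' * e') = k' := by
      rw [← hm'', Nat.mul_div_cancel_left]
      exact Nat.pos_of_ne_zero fun h => by rw [h, zero_mul] at hm''; omega
    exact key' n' (Nat.mem_divisors.2 ⟨Dvd.intro (e' * k') (by rw [← hm'']; ring), by norm_num⟩) e'
      (Nat.mem_divisors.2 ⟨D'.edvd, by norm_num⟩) D'.nmod D'.big D'.two_le (Dvd.intro k' hm'')
      (by rw [hke']; exact hc') (by rw [hke']; exact h7)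
  · have key : ∀ n ∈ Nat.divisors 15960, ∀ e ∈ Nat.divisors 10, n % 11 = 1 → 2 ≤ e → n * e ∣ 15960 →
        ¬ 19 ∣ 15960 / (n * e) → 2 ∣ 15960 / (n * e) → 8 ∣ 15960 / (n * e) * e →
        n = 133 ∧ (e = 2 ∨ 5 ∣ e ∧ 15960 / (n * e) ∈ [12, 24, 4, 8]) := by decide +kernel
    have hm' : n * e * k = 15960 := by omega
    have hke : 15960 / (n * e) = k := by
      rw [← hm', Nat.mul_div_cancel_left]
      exact Nat.pos_of_ne_zero fun h => by rw [h, zero_mul] at hm'; omega
    obtain ⟨hn', hcase⟩ := key n (Nat.mem_divisors.2 ⟨Dvd.intro (e * k) (by rw [← hm']; ring), by norm_num⟩) e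
      (Nat.mem_divisors.2 ⟨D.edvd, by norm_num⟩) D.nmod D.two_le (Dvd.intro k hm') (by rw [hke]; exact hc)
      (by rw [hke]; exact hk2) (by rw [hke]; exact h8)
    rcases hcase with rfl | ⟨h5, hk⟩
    · obtain ⟨P, hP, hnP, -, hrel⟩ := D.syl
      have hna : ¬ IsMulCommutative G := Lead.BlockDeg.not_comm (p := 19) (m := 9240) (by norm_num) (by rw [hG]) (by norm_num)
      obtain ⟨s, hs1, hs2, -, hs4, hs5⟩ := Lead.BlockDeg.degree_equation_two hna P hP (by norm_num) hrel
      rw [hnP, hn'] at hs4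
      rw [hG] at hs5
      have key2 : ∀ a ∈ Nat.divisors 266, 1 < a →
          (a % 11 = 1 → ¬ (a + 1 ∣ 175560)) ∧ (a % 11 = 10 → ¬ (a - 1 ∣ 175560)) := by decide +kernel
      obtain ⟨h1, h2⟩ := key2 s.natAbs (Nat.mem_divisors.2 ⟨hs4, by norm_num⟩) hs2
      rcases Int.natAbs_eq s with hs | hs <;> rw [hs] at hs1 hs5
      · refine h1 (by omega) ?_
        rwa [show ((s.natAbs : ℤ) + 1).natAbs = s.natAbs + 1 by omega] at hs5
      · refine h2 (by omega) ?_
        rwa [show (-(s.natAbs : ℤ) + 1).natAbs = s.natAbs - 1 by omega] at hs5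
    · rw [hke] at hk
      exact hd5 rfl (five_dvd hd D rfl h5 hk)

end Cfsg.Agent.Lead.JankoOrder
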