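import Cfsg.Agent.Lib.Lead.JankoOrder.Basic
import Cfsg.Agent.Lib.Small.SimpleOrderTools
import Mathlib.GroupTheory.GroupAction.ConjAct

/-!
# Simple groups of order 175560: the Sylow subgroups of prime order
-/

set_option autoImplicit false
set_option linter.style.haveILetI false

namespace Cfsg.Agent.Lead.JankoOrder

open Cfsg.Agent.Char

universe u

variable {G : Type u} [Group G] [Finite G]

/-- The data of the Sylow `p`-subgroups: their number, the automiser order and the reduced centraliser order. -/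
structure PrimeData (G : Type u) [Group G] (p n e k : ℕ) : Prop where
  nmod : n % p = 1
  edvd : e ∣ p - 1
  two_le : 2 ≤ e
  hnek : p * (n * e * k) = Nat.card G
  big : 19 ≤ n
  cent : ∀ x : G, orderOf x = p → Nat.card (Subgroup.centralizer ({x} : Set G)) = p * k
  norm : ∀ x : G, orderOf x = p →
    Nat.card (Subgroup.normalizer (Subgroup.zpowers x : Set G)) = p * k * e
  count : Nat.card {x : G // orderOf x = p} = n * (p - 1)
  syl : ∃ P : Sylow p G, Nat.card P = p ∧ Nat.card (Sylow p G) = n ∧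
    PrimeSylowCount.centCard p P = p * k ∧
    (Subgroup.centralizer ((P : Subgroup G) : Set G)).relIndex
      (Subgroup.normalizer ((P : Subgroup G) : Set G)) = e

theorem exists_primeData [IsSimpleGroup G] {p m : ℕ} [Fact p.Prime] (hG : Nat.card G = p * m)
    (hm : ¬ p ∣ m) (hm1 : 1 < m) (h19 : 19 ∣ Nat.card G) : ∃ n e k, PrimeData G p n e k := by
  classical
  obtain ⟨P, n, e, k, hP, hn, hk, hnek, hn1, hne1, he, he1, hrel⟩ := PrimeSylowCount.data hG hm hm1
  have hp : p.Prime := Fact.out
  have hall : ∀ Q : Sylow p G, Nat.card Q = p := fun Q => by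
    rw [Q.card_eq_multiplicity, ← P.card_eq_multiplicity, hP]
  have hnorm0 : ∀ Q : Sylow p G, Nat.card (Subgroup.normalizer ((Q : Subgroup G) : Set G)) = p * k * e := fun Q => by
    have h := Small.SmallOrders.card_normalizer Q
    rw [hn, hG, ← hnek] at h
    have hn0 : n ≠ 0 := by rintro rfl; simp at hn1
    exact Nat.eq_of_mul_eq_mul_left (Nat.pos_of_ne_zero hn0) (h.trans (by ring))
  refine ⟨n, e, k, hn1, he, ?_, by rw [hnek, hG], ?_, fun x hx => ?_, fun x hx => ?_, ?_, P, hP, hn, hk, hrel⟩
  · rcases Nat.eq_zero_or_pos e with h | h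
    · subst h; simp at hnek; omega
    · omega
  · -- conjugation on the Sylow subgroups is faithful
    by_contra hlt
    have hnc : ¬ IsMulCommutative G := Lead.BlockDeg.not_comm hp hG hm1
    have hidx : (Subgroup.normalizer ((P : Subgroup G) : Set G)).index = n :=
      (Sylow.card_eq_index_normalizer P).symm.trans hn
    have hH : Subgroup.normalizer ((P : Subgroup G) : Set G) ≠ ⊤ := fun h => hne1 (by
      rw [← hidx, h, Subgroup.index_top])
    obtain ⟨f, hf, -⟩ := Small.SimpleOrderTools.card_dvd_half_factorial hnc _ hH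
    have hd := Subgroup.card_dvd_of_injective f hf
    rw [Nat.card_perm, Nat.card_fin, hidx] at hd
    have := (Nat.Prime.dvd_factorial (by norm_num : Nat.Prime 19)).1 (h19.trans hd)
    omega
  · obtain ⟨Q, hQ⟩ := PrimeSylowCount.exists_sylow_eq P hP x hx
    have h2 := PrimeSylowCount.centCard_eq P Q
    rw [hk] at h2
    rw [h2, PrimeSylowCount.centCard, hQ, centralizer_zpowers_eq]
  · obtain ⟨Q, hQ⟩ := PrimeSylowCount.exists_sylow_eq P hP x hx
    rw [← hQ]; exact hnorm0 Q
  · haveI := Fintype.ofFinite G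
    rw [← hn]
    have hd : ∀ Q : Sylow p G, Nat.card {x : ↥(Q : Subgroup G) // x ≠ 1} = p - 1 := fun Q => by
      haveI := Fintype.ofFinite ↥(Q : Subgroup G)
      rw [Nat.card_eq_fintype_card, Fintype.card_subtype_compl, Fintype.card_subtype_eq,
        ← Nat.card_eq_fintype_card, show Nat.card ↥(Q : Subgroup G) = p from hall Q]
    have ho : ∀ (Q : Sylow p G) (x : ↥(Q : Subgroup G)), x ≠ 1 → orderOf (x : G) = p := fun Q x hx => by
      have h := (Q : Subgroup G).orderOf_dvd_natCard x.2
      rw [show Nat.card ↥(Q : Subgroup G) = p from hall Q] at h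
      rcases (Nat.dvd_prime hp).1 h with h | h
      · exact absurd (Subtype.ext (orderOf_eq_one_iff.1 h)) hx
      · exact h
    let F : (Σ Q : Sylow p G, {x : ↥(Q : Subgroup G) // x ≠ 1}) → {x : G // orderOf x = p} :=
      fun r => ⟨r.2.1, ho r.1 r.2.1 r.2.2⟩
    have hF : Function.Bijective F := by
      refine ⟨fun r r' h => ?_, fun x => ?_⟩
      · have h' : (r.2.1 : G) = r'.2.1 := congrArg Subtype.val h
        have hQ : r.1 = r'.1 := by
          apply Sylow.ext
          have e1 := Char.eq_zpowers_of_prime_sylow (hall r.1) r.2.1.2 (fun e => r.2.2 (Subtype.ext e))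
          have e2 := Char.eq_zpowers_of_prime_sylow (hall r'.1) r'.2.1.2 (fun e => r'.2.2 (Subtype.ext e))
          rw [← e1, ← e2, h']
        obtain ⟨Q, x, hx⟩ := r
        obtain ⟨Q', x', hx'⟩ := r'
        obtain rfl : Q = Q' := hQ
        have : x = x' := Subtype.ext h'
        subst this
        rfl
      · obtain ⟨Q, hQ⟩ := PrimeSylowCount.exists_sylow_eq P hP x.1 x.2
        refine ⟨⟨Q, ⟨⟨x.1, hQ ▸ Subgroup.mem_zpowers x.1⟩, fun h => ?_⟩⟩, Subtype.ext rfl⟩
        have := x.2
        rw [show x.1 = 1 from congrArg Subtype.val h, orderOf_one] at this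
        exact hp.one_lt.ne this
    rw [← Nat.card_eq_of_bijective F hF, Nat.card_sigma, Finset.sum_congr rfl fun Q _ => hd Q, Finset.sum_const,
      smul_eq_mul, Finset.card_univ, ← Nat.card_eq_fintype_card]

variable {d : ℕ} (hd : ∀ u : G, orderOf u = 2 → Nat.card (Subgroup.centralizer ({u} : Set G)) = 8 * d)

include hd in
/-- An element of odd prime order commuting with an involution has order dividing `d`. -/
theorem dvd_of_commute {p : ℕ} (hp : p.Prime) (h2 : p ≠ 2) {u z : G} (hu : orderOf u = 2) (hz : orderOf z = p)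
    (h : z * u = u * z) : p ∣ d := by
  have h1 : p ∣ 8 * d := by
    rw [← hd u hu, ← hz]
    exact Subgroup.orderOf_dvd_natCard _ (Subgroup.mem_centralizer_singleton_iff.2 h)
  rcases hp.dvd_mul.1 h1 with h8 | h8
  · exact absurd ((Nat.prime_dvd_prime_iff_eq hp Nat.prime_two).1 (hp.dvd_of_dvd_pow (show p ∣ 2 ^ 3 from h8))) h2
  · exact h8

include hd in
theorem even_cent {p n e k : ℕ} [Fact p.Prime] (D : PrimeData G p n e k) (hp2 : p ≠ 2) {x : G} (hx : orderOf x = p)
    (hk : 2 ∣ k) : p ∣ d := by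
  haveI : Fact (Nat.Prime 2) := ⟨Nat.prime_two⟩
  obtain ⟨⟨u, huC⟩, hu⟩ := exists_prime_orderOf_dvd_card' 2
    (show 2 ∣ Nat.card (Subgroup.centralizer ({x} : Set G)) by rw [D.cent x hx]; exact dvd_mul_of_dvd_right hk p)
  rw [Subgroup.orderOf_mk] at hu
  exact dvd_of_commute hd Fact.out hp2 hu hx (Subgroup.mem_centralizer_singleton_iff.1 huC).symm

/-- An inverting involution. -/
theorem exists_inverting {p n e k : ℕ} [Fact p.Prime] (D : PrimeData G p n e k) {x : G} (hx : orderOf x = p)
    (hp2 : p ≠ 2) (hk : ¬ 2 ∣ k) (he : 2 ∣ e) : ∃ s : G, orderOf s = 2 ∧ s * x * s⁻¹ = x⁻¹ := by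
  haveI : Fact (Nat.Prime 2) := ⟨Nat.prime_two⟩
  have hp : p.Prime := Fact.out
  obtain ⟨⟨s, hsN⟩, hs⟩ := exists_prime_orderOf_dvd_card' 2
    (show 2 ∣ Nat.card (Subgroup.normalizer (Subgroup.zpowers x : Set G)) by
      rw [D.norm x hx]; exact dvd_mul_of_dvd_right he _)
  rw [Subgroup.orderOf_mk] at hs
  refine ⟨s, hs, ?_⟩
  have hmem : s * x * s⁻¹ ∈ Subgroup.zpowers x :=
    (Subgroup.mem_normalizer_iff.1 hsN x).1 (Subgroup.mem_zpowers x)
  obtain ⟨i, hi⟩ := mem_powers_iff_mem_zpowers.2 hmem
  replace hi : x ^ i = s * x * s⁻¹ := hi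
  have ss := (orderOf_eq_two.1 hs).1
  have hii : x ^ (i * i) = x := by
    rw [pow_mul, hi, conj_pow, hi]
    calc s * (s * x * s⁻¹) * s⁻¹ = (s * s) * x * (s * s)⁻¹ := by group
      _ = x := by rw [ss]; group
  have hnc : x ^ i ≠ x := fun h => hk (by
    have h2 : 2 ∣ Nat.card (Subgroup.centralizer ({x} : Set G)) := by
      rw [← hs]
      refine Subgroup.orderOf_dvd_natCard _ (Subgroup.mem_centralizer_singleton_iff.2 ?_)
      calc s * x = s * x * s⁻¹ * s := by group
        _ = x * s := by rw [← hi, h]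
    rw [D.cent x hx] at h2
    exact (Nat.prime_two.dvd_mul.1 h2).resolve_left fun h3 =>
      hp2 ((Nat.prime_dvd_prime_iff_eq Nat.prime_two hp).1 h3).symm)
  have hz : ((i : ZMod p) - 1) * ((i : ZMod p) + 1) = 0 := by
    have hmod : (i * i : ℕ) ≡ 1 [MOD p] := by
      rw [← hx, ← pow_eq_pow_iff_modEq, pow_one]; exact hii
    have := (ZMod.natCast_eq_natCast_iff _ _ p).2 hmod
    push_cast at this
    linear_combination this
  rcases mul_eq_zero.1 hz with h | h
  · refine absurd ?_ hnc
    nth_rewrite 2 [← pow_one x]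
    rw [pow_eq_pow_iff_modEq, hx]
    refine (ZMod.natCast_eq_natCast_iff _ _ p).1 ?_
    push_cast
    linear_combination h
  · rw [← hi]
    refine eq_inv_of_mul_eq_one_left ?_
    rw [← pow_succ, ← orderOf_dvd_iff_pow_eq_one, hx, ← ZMod.natCast_eq_zero_iff]
    push_cast
    linear_combination h

/-- The inverted elements bound the number of involutions from below. -/
theorem pairs_lower {p n e k : ℕ} [Fact p.Prime] (D : PrimeData G p n e k) (hp2 : p ≠ 2) (hk : ¬ 2 ∣ k) (he : 2 ∣ e) :
    n * (p - 1) * p ≤ invCount G * invCount G := by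
  classical
  haveI := Fintype.ofFinite G
  have hp : p.Prime := Fact.out
  rw [← sum_invPartners, ← D.count, Nat.card_eq_fintype_card, Fintype.card_subtype]
  refine le_trans ?_ (Finset.sum_le_sum_of_subset (Finset.subset_univ (Finset.univ.filter fun x : G => orderOf x = p)))
  refine le_trans (le_of_eq ?_) (Finset.card_nsmul_le_sum _ _ p fun x hx => ?_)
  · rw [smul_eq_mul]
  · have hxp := (Finset.mem_filter.1 hx).2
    obtain ⟨s, hs, he'⟩ := exists_inverting D hxp hp2 hk he
    refine hxp ▸ le_invPartners hs he' fun h => hp2 ?_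
    have h2 : orderOf x ∣ 2 := orderOf_dvd_of_pow_eq_one (by rw [pow_two]; exact h)
    rw [hxp] at h2
    exact (Nat.prime_dvd_prime_iff_eq hp Nat.prime_two).1 h2

include hd in
/-- A cyclic normal subgroup of order `p` in the centraliser of an involution. -/
theorem normal_in_cent {p n e k : ℕ} [Fact p.Prime] (D : PrimeData G p n e k) (hp2 : p ≠ 2) {u x : G} (hu : orderOf u = 2)
    (hx : orderOf x = p) (hxC : x * u = u * x)
    (hn : ∀ g ∈ Subgroup.centralizer ({u} : Set G), g ∈ Subgroup.normalizer (Subgroup.zpowers x : Set G)) :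
    2 ∣ k ∧ 8 ∣ k * e := by
  have hp : p.Prime := Fact.out
  have hc2 : Nat.Coprime 2 p := (Nat.coprime_primes Nat.prime_two hp).2 (Ne.symm hp2)
  refine ⟨?_, ?_⟩
  · have h2 : 2 ∣ p * k := by
      rw [← D.cent x hx, ← hu]
      exact Subgroup.orderOf_dvd_natCard _ (Subgroup.mem_centralizer_singleton_iff.2 hxC.symm)
    exact hc2.dvd_of_dvd_mul_left h2
  · have h8 : 8 ∣ p * (k * e) := by
      rw [← mul_assoc, ← D.norm x hx]
      refine (Dvd.intro d (hd u hu).symm).trans ?_
      exact Subgroup.card_dvd_of_le hn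
    exact (Nat.Coprime.pow_left 3 hc2).dvd_of_dvd_mul_left h8

include hd in
/-- An automiser element of order five and a small Sylow 2-subgroup of the centraliser. -/
theorem five_dvd {p n e k : ℕ} [Fact p.Prime] (D : PrimeData G p n e k) (hp : p = 11) (h5 : 5 ∣ e)
    (hk : k ∈ [12, 24, 4, 8]) : 5 ∣ d := by
  subst hp
  haveI : Fact (Nat.Prime 5) := ⟨by norm_num⟩
  haveI : Fact (Nat.Prime 2) := ⟨Nat.prime_two⟩
  obtain ⟨P, hP, -, hcP, hrel⟩ := D.syl
  set N := Subgroup.normalizer ((P : Subgroup G) : Set G) with hN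
  set C := Subgroup.centralizer ((P : Subgroup G) : Set G) with hC
  have hCN : C ≤ N := Subgroup.centralizer_le_normalizer _
  haveI : (C.subgroupOf N).Normal := by
    rw [hC, hN, ← Subgroup.normalizerMonoidHom_ker]; infer_instance
  obtain ⟨V⟩ : Nonempty (Sylow 2 (C.subgroupOf N)) := inferInstance
  set W := ((V : Subgroup (C.subgroupOf N)).map (C.subgroupOf N).subtype) with hW
  have hsup : Subgroup.normalizer (W : Set N) ⊔ C.subgroupOf N = ⊤ := Sylow.normalizer_sup_eq_top V
  have he : 5 ∣ Nat.card (Subgroup.normalizer (W : Set N)) := by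
    refine h5.trans ?_
    rw [← hrel, Subgroup.relIndex, ← Subgroup.relIndex_top_right (C.subgroupOf N), ← hsup,
      Subgroup.relIndex_sup_right]
    exact Subgroup.index_dvd_card _
  obtain ⟨⟨z, hzN⟩, hz⟩ := exists_prime_orderOf_dvd_card' 5 he
  rw [Subgroup.orderOf_mk] at hz
  have hcard : Nat.card (C.subgroupOf N) = 11 * k := by
    rw [Nat.card_congr (Subgroup.subgroupOfEquivOfLe hCN).toEquiv]; exact hcP
  have hWc : Nat.card W = 4 ∨ Nat.card W = 8 := by
    rw [hW, Subgroup.card_map_of_injective (Subgroup.subtype_injective _)]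
    simp only [List.mem_cons, List.not_mem_nil, or_false] at hk
    rcases hk with rfl | rfl | rfl | rfl
    · left; rw [Small.SmallOrders.sylow_card_eq (p := 2) (k := 2) (m := 33) (by rw [hcard]; norm_num) (by norm_num) V]; norm_num
    · right; rw [Small.SmallOrders.sylow_card_eq (p := 2) (k := 3) (m := 33) (by rw [hcard]; norm_num) (by norm_num) V]; norm_num
    · left; rw [Small.SmallOrders.sylow_card_eq (p := 2) (k := 2) (m := 11) (by rw [hcard]; norm_num) (by norm_num) V]; norm_num
    · right; rw [Small.SmallOrders.sylow_card_eq (p := 2) (k := 3) (m := 11) (by rw [hcard]; norm_num) (by norm_num) V]; norm_num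
  letI act : MulAction (Subgroup.zpowers z) W :=
    { smul := fun g w => ⟨(g : N) * w * (g : N)⁻¹,
        (Subgroup.mem_normalizer_iff.1 (Subgroup.zpowers_le.2 hzN g.2) _).1 w.2⟩
      one_smul := fun w => by apply Subtype.ext; show (1 : N) * _ * (1 : N)⁻¹ = _; group
      mul_smul := fun g g' w => by
        apply Subtype.ext
        show ((g : N) * g') * _ * ((g : N) * g')⁻¹ = (g : N) * ((g' : N) * _ * (g' : N)⁻¹) * (g : N)⁻¹
        group }
  have hzp : IsPGroup 5 (Subgroup.zpowers z) := IsPGroup.of_card (n := 1) (by rw [Nat.card_zpowers, hz, pow_one])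
  have hfix := hzp.card_modEq_card_fixedPoints W
  haveI : Nontrivial (MulAction.fixedPoints (Subgroup.zpowers z) W) := by
    rw [← Finite.one_lt_card_iff_nontrivial]
    unfold Nat.ModEq at hfix
    rcases hWc with h | h <;> rw [h] at hfix <;> omega
  obtain ⟨⟨w, hw⟩, hw1⟩ := exists_ne (⟨1, fun g => by
    apply Subtype.ext; show (g : N) * 1 * (g : N)⁻¹ = 1; group⟩ : MulAction.fixedPoints (Subgroup.zpowers z) W)
  have hwz : z * (w : N) = (w : N) * z := by
    have h := congrArg Subtype.val (hw ⟨z, Subgroup.mem_zpowers z⟩)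
    change z * (w : N) * z⁻¹ = (w : N) at h
    calc z * (w : N) = z * (w : N) * z⁻¹ * z := by group
      _ = (w : N) * z := by rw [h]
  have hdw : orderOf ((w : N) : G) ∣ 8 := by
    rw [Subgroup.orderOf_coe]
    refine ((W.orderOf_dvd_natCard w.2)).trans ?_
    rcases hWc with h | h <;> rw [h]; norm_num
  have hne : ((w : N) : G) ≠ 1 := fun h => hw1 (Subtype.ext (Subtype.ext (Subtype.ext h)))
  have hev : 2 ∣ orderOf ((w : N) : G) := by
    obtain ⟨j, hj, hje⟩ := (Nat.dvd_prime_pow Nat.prime_two).1 (show orderOf ((w : N) : G) ∣ 2 ^ 3 from hdw)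
    rcases j with _ | j
    · exact absurd (orderOf_eq_one_iff.1 (by simpa using hje)) hne
    · rw [hje, pow_succ]; exact dvd_mul_left 2 _
  refine dvd_of_commute hd (by norm_num) (by norm_num) (u := ((w : N) : G) ^ (orderOf ((w : N) : G) / 2))
    (z := ((z : N) : G)) (orderOf_pow_orderOf_div (orderOf_pos _).ne' hev) ?_ ?_
  · rw [Subgroup.orderOf_coe]; exact hz
  · exact (Commute.pow_right (show Commute ((z : N) : G) ((w : N) : G) from congrArg Subtype.val hwz) _).eq

end Cfsg.Agent.Lead.JankoOrder
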