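import Cfsg.Agent.Lib.Lead.JankoOrder.Count

/-!
# Simple groups of order 175560: small involution centralisers are impossible
-/

set_option autoImplicit false
set_option linter.style.haveILetI false
set_option synthInstance.maxSize 2000

namespace Cfsg.Agent.Lead.JankoOrder

open Cfsg.Agent.Char

universe u

variable {G : Type u} [Group G] [Finite G] {d : ℕ}
variable (hd : ∀ u : G, orderOf u = 2 → Nat.card (Subgroup.centralizer ({u} : Set G)) = 8 * d)

include hd in
theorem odd_cent {p n e k : ℕ} [Fact p.Prime] (D : PrimeData G p n e k) (hp2 : p ≠ 2) (hp : ¬ p ∣ d) : ¬ 2 ∣ k :=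
  fun h => hp (by obtain ⟨x, hx⟩ := exists_orderOf D; exact even_cent hd D hp2 hx h)

include hd in
theorem cent_bound [IsSimpleGroup G] (hG : Nat.card G = 175560) {e0 k0 : ℕ} (D0 : PrimeData G 19 1540 e0 k0)
    (hk0 : k0 ∈ [1, 3]) (hd13 : d = 1 ∨ d = 3) {q : ℕ} (hq : q ∈ [2, 5, 7, 11, 19]) {x : G} (hx : orderOf x = q) :
    Nat.card (Subgroup.centralizer ({x} : Set G)) ≤ 165 := by
  haveI : Fact (Nat.Prime 19) := ⟨by norm_num⟩
  haveI : Fact (Nat.Prime 7) := ⟨by norm_num⟩
  haveI : Fact (Nat.Prime 5) := ⟨by norm_num⟩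
  haveI : Fact (Nat.Prime 11) := ⟨by norm_num⟩
  simp only [List.mem_cons, List.not_mem_nil, or_false] at hq hk0
  have hc : ∀ p, [Fact p.Prime] → p ≠ 19 → p ≠ 3 → ∀ n e k, PrimeData G p n e k → ¬ 19 ∣ k :=
    fun p _ h1 h2 n e k D h => by
      have := cross_data D D0 h1 h
      rcases hk0 with rfl | rfl
      · exact (Fact.out : p.Prime).ne_one (Nat.dvd_one.1 this)
      · exact h2 ((Nat.prime_dvd_prime_iff_eq Fact.out (by norm_num)).1 this)
  -- the Sylow 7 data
  have h7 : ∀ n e k, PrimeData G 7 n e k → k ≤ 3 := fun n e k D => by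
    have hm : n * e * k = 25080 := by have := D.hnek; rw [hG] at this; omega
    have ho := odd_cent hd D (by norm_num) (by omega)
    have h19 := hc 7 (by norm_num) (by norm_num) n e k D
    have key : ∀ n ∈ Nat.divisors 25080, ∀ e ∈ Nat.divisors 6, n % 7 = 1 → 19 ≤ n → 2 ≤ e → n * e ∣ 25080 →
        ¬ 2 ∣ 25080 / (n * e) → ¬ 19 ∣ 25080 / (n * e) → 25080 / (n * e) ≤ 3 := by decide +kernel
    have hke : 25080 / (n * e) = k := by
      rw [← hm, Nat.mul_div_cancel_left]
      exact Nat.pos_of_ne_zero fun h => by rw [h, zero_mul] at hm; omega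
    exact hke ▸ key n (Nat.mem_divisors.2 ⟨Dvd.intro (e * k) (by rw [← hm]; ring), by norm_num⟩) e
      (Nat.mem_divisors.2 ⟨D.edvd, by norm_num⟩) D.nmod D.big D.two_le (Dvd.intro k hm)
      (by rw [hke]; exact ho) (by rw [hke]; exact h19)
  rcases hq with rfl | rfl | rfl | rfl | rfl
  · rw [hd x hx]; omega
  · obtain ⟨n, e, k, D⟩ := prime_data hG 5 (by simp)
    rw [D.cent x hx]
    have hm : n * e * k = 35112 := by have := D.hnek; rw [hG] at this; omega
    have key : ∀ n ∈ Nat.divisors 35112, ∀ e ∈ Nat.divisors 4, n % 5 = 1 → 19 ≤ n → 2 ≤ e → n * e ∣ 35112 →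
        ¬ 2 ∣ 35112 / (n * e) → ¬ 19 ∣ 35112 / (n * e) →
        35112 / (n * e) ≤ 33 ∨ 7 ∣ 35112 / (n * e) := by decide +kernel
    have hke : 35112 / (n * e) = k := by
      rw [← hm, Nat.mul_div_cancel_left]
      exact Nat.pos_of_ne_zero fun h => by rw [h, zero_mul] at hm; omega
    have := key n (Nat.mem_divisors.2 ⟨Dvd.intro (e * k) (by rw [← hm]; ring), by norm_num⟩) e
      (Nat.mem_divisors.2 ⟨D.edvd, by norm_num⟩) D.nmod D.big D.two_le (Dvd.intro k hm)
      (by rw [hke]; exact odd_cent hd D (by norm_num) (by omega))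
      (by rw [hke]; exact hc 5 (by norm_num) (by norm_num) n e k D)
    rw [hke] at this
    rcases this with h | h
    · omega
    · obtain ⟨n', e', k', D'⟩ := prime_data hG 7 (by simp)
      have h5 := cross_data D D' (by norm_num) h
      have h3 := h7 n' e' k' D'
      have h0 : k' ≠ 0 := fun h => by
        have := D'.hnek
        rw [h, mul_zero, mul_zero, hG] at this
        omega
      omega
  · obtain ⟨n, e, k, D⟩ := prime_data hG 7 (by simp)
    rw [D.cent x hx]
    have := h7 n e k D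
    omega
  · obtain ⟨n, e, k, D⟩ := prime_data hG 11 (by simp)
    rw [D.cent x hx]
    have hm : n * e * k = 15960 := by have := D.hnek; rw [hG] at this; omega
    have key : ∀ n ∈ Nat.divisors 15960, ∀ e ∈ Nat.divisors 10, n % 11 = 1 → 19 ≤ n → 2 ≤ e → n * e ∣ 15960 →
        ¬ 2 ∣ 15960 / (n * e) → ¬ 19 ∣ 15960 / (n * e) → 15960 / (n * e) ≤ 15 := by decide +kernel
    have hke : 15960 / (n * e) = k := by
      rw [← hm, Nat.mul_div_cancel_left]
      exact Nat.pos_of_ne_zero fun h => by rw [h, zero_mul] at hm; omega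
    have := key n (Nat.mem_divisors.2 ⟨Dvd.intro (e * k) (by rw [← hm]; ring), by norm_num⟩) e
      (Nat.mem_divisors.2 ⟨D.edvd, by norm_num⟩) D.nmod D.big D.two_le (Dvd.intro k hm)
      (by rw [hke]; exact odd_cent hd D (by norm_num) (by omega))
      (by rw [hke]; exact hc 11 (by norm_num) (by norm_num) n e k D)
    rw [hke] at this
    omega
  · rw [D0.cent x hx]; omega

include hd in
theorem not_one_three [IsSimpleGroup G] (hG : Nat.card G = 175560) (hI : invCount G * d = 21945) {e0 k0 : ℕ}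
    (D0 : PrimeData G 19 1540 e0 k0) (hk0 : k0 ∈ [1, 3]) : d ≠ 1 ∧ d ≠ 3 := by
  classical
  haveI := Fintype.ofFinite G
  haveI : Fact (Nat.Prime 3) := ⟨by norm_num⟩
  rw [← not_or]
  intro hd13
  obtain ⟨n, e, k, D⟩ := prime_data hG 3 (by simp)
  have hb : ∀ x : G, x ≠ 1 → orderOf x ≠ 3 → invPartners x ≤ 165 := by
    intro x h1 h3
    have hN : orderOf x ∣ 175560 := hG ▸ orderOf_dvd_natCard x
    have hne : orderOf x ≠ 1 := fun h => h1 (orderOf_eq_one_iff.1 h)
    have hmem : ∀ q : ℕ, q.Prime → q ∣ 175560 → q ∈ [2, 3, 5, 7, 11, 19] := by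
      intro q hq hqd
      rw [show (175560 : ℕ) = 2 * 2 * 2 * 3 * 5 * 7 * 11 * 19 by norm_num, hq.dvd_mul, hq.dvd_mul, hq.dvd_mul,
        hq.dvd_mul, hq.dvd_mul, hq.dvd_mul, hq.dvd_mul] at hqd
      simp only [Nat.prime_dvd_prime_iff_eq hq Nat.prime_two, Nat.prime_dvd_prime_iff_eq hq Nat.prime_three,
        Nat.prime_dvd_prime_iff_eq hq Nat.prime_five, Nat.prime_dvd_prime_iff_eq hq (show Nat.Prime 7 by norm_num),
        Nat.prime_dvd_prime_iff_eq hq (show Nat.Prime 11 by norm_num),
        Nat.prime_dvd_prime_iff_eq hq (show Nat.Prime 19 by norm_num)] at hqd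
      simp only [List.mem_cons, List.not_mem_nil, or_false]
      tauto
    obtain ⟨q, hq, hqp, hqd⟩ : ∃ q ∈ [2, 5, 7, 11, 19], q.Prime ∧ q ∣ orderOf x := by
      obtain ⟨q, hqp, hqd⟩ := Nat.exists_prime_and_dvd hne
      by_cases hq3 : q = 3
      · subst hq3
        obtain ⟨c, hc⟩ := hqd
        have hc1 : c ≠ 1 := fun h => h3 (by rw [hc, h])
        obtain ⟨r, hrp, hrd⟩ := Nat.exists_prime_and_dvd hc1
        have hr := hmem r hrp ((hc ▸ dvd_mul_of_dvd_right hrd 3).trans hN)
        have hr3 : r ≠ 3 := by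
          rintro rfl
          have h9 : 9 ∣ 175560 := (hc ▸ (mul_dvd_mul_left 3 hrd)).trans hN
          norm_num at h9
        refine ⟨r, ?_, hrp, hc ▸ dvd_mul_of_dvd_right hrd 3⟩
        simp only [List.mem_cons, List.not_mem_nil, or_false] at hr ⊢
        tauto
      · refine ⟨q, ?_, hqp, hqd⟩
        have := hmem q hqp (hqd.trans hN)
        simp only [List.mem_cons, List.not_mem_nil, or_false] at this ⊢
        tauto
    refine (invPartners_le x).trans (le_trans ?_ (cent_bound hd hG D0 hk0 hd13 hq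
      (orderOf_pow_orderOf_div (orderOf_pos x).ne' hqd)))
    refine Nat.le_of_dvd Nat.card_pos (Subgroup.card_dvd_of_le fun g hg => ?_)
    rw [Subgroup.mem_centralizer_singleton_iff] at hg ⊢
    exact (Commute.pow_right (show Commute g x from hg) _).eq
  have hsum := sum_invPartners (G := G)
  rw [← Finset.sum_filter_add_sum_filter_not Finset.univ (fun x : G => orderOf x = 3),
    ← Finset.sum_filter_add_sum_filter_not (Finset.univ.filter fun x : G => ¬ orderOf x = 3) (fun x : G => x = 1)] at hsum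
  have h3 : ∑ x ∈ Finset.univ.filter (fun x : G => orderOf x = 3), invPartners x ≤ 175560 := by
    refine le_trans (Finset.sum_le_card_nsmul _ _ (3 * k) fun x hx =>
      (invPartners_le x).trans (D.cent x (Finset.mem_filter.1 hx).2).le) ?_
    rw [smul_eq_mul, ← Fintype.card_subtype, ← Nat.card_eq_fintype_card, D.count, ← hG, ← D.hnek]
    have := D.two_le
    calc n * (3 - 1) * (3 * k) = 3 * (n * 2 * k) := by ring
      _ ≤ 3 * (n * e * k) := by gcongr
  have h1 : ∑ x ∈ (Finset.univ.filter fun x : G => ¬ orderOf x = 3).filter (fun x => x = 1), invPartners x ≤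
      invCount G := by
    refine le_trans (Finset.sum_le_sum_of_subset (t := ({1} : Finset G)) fun x hx =>
      Finset.mem_singleton.2 (Finset.mem_filter.1 hx).2) ?_
    rw [Finset.sum_singleton]
    exact invPartners_one_le
  have h2 : ∑ x ∈ (Finset.univ.filter fun x : G => ¬ orderOf x = 3).filter (fun x => ¬ x = 1), invPartners x ≤
      175560 * 165 := by
    refine le_trans (Finset.sum_le_card_nsmul _ _ 165 fun x hx => hb x (Finset.mem_filter.1 hx).2
      (Finset.mem_filter.1 (Finset.mem_filter.1 hx).1).2) ?_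
    rw [smul_eq_mul, ← hG, Nat.card_eq_fintype_card]
    exact Nat.mul_le_mul_right _ (Finset.card_le_univ _)
  rcases hd13 with rfl | rfl
  · rw [mul_one] at hI; rw [hI] at hsum h1; omega
  · have hI' : invCount G = 7315 := by omega
    rw [hI'] at hsum h1; omega

end Cfsg.Agent.Lead.JankoOrder
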